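-- Conjugacy in SL_2 over a field: normal forms via a cyclic vector.
import Mathlib

set_option autoImplicit false

namespace Cfsg.Agent.Lib.Helper39.SL2Conj

open Matrix

variable {F : Type*} [Field F]

/-- The element `[[0, -l⁻¹], [l, t]]` of `SL_2`. -/
def Mmat (l : Fˣ) (t : F) : Matrix.SpecialLinearGroup (Fin 2) F :=
  ⟨!![0, -(l : F)⁻¹; (l : F), t], by simp [Matrix.det_fin_two]⟩

theorem Mmat_val (l : Fˣ) (t : F) :
    ((Mmat l t : Matrix.SpecialLinearGroup (Fin 2) F) : Matrix (Fin 2) (Fin 2) F) =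
      !![0, -(l : F)⁻¹; (l : F), t] := rfl

theorem Mmat_00 (l : Fˣ) (t : F) :
    ((Mmat l t : Matrix.SpecialLinearGroup (Fin 2) F) : Matrix (Fin 2) (Fin 2) F) 0 0 = 0 := rfl

theorem Mmat_01 (l : Fˣ) (t : F) :
    ((Mmat l t : Matrix.SpecialLinearGroup (Fin 2) F) : Matrix (Fin 2) (Fin 2) F) 0 1 =
      -(l : F)⁻¹ := rfl

theorem Mmat_10 (l : Fˣ) (t : F) :
    ((Mmat l t : Matrix.SpecialLinearGroup (Fin 2) F) : Matrix (Fin 2) (Fin 2) F) 1 0 = l := rfl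

theorem Mmat_11 (l : Fˣ) (t : F) :
    ((Mmat l t : Matrix.SpecialLinearGroup (Fin 2) F) : Matrix (Fin 2) (Fin 2) F) 1 1 = t := rfl

/-- The scalar element of `SL_2` attached to `e` with `e * e = 1`. -/
def scal (e : F) (he : e * e = 1) : Matrix.SpecialLinearGroup (Fin 2) F :=
  ⟨!![e, 0; 0, e], by simp [Matrix.det_fin_two, he]⟩

theorem scal_val (e : F) (he : e * e = 1) :
    ((scal e he : Matrix.SpecialLinearGroup (Fin 2) F) : Matrix (Fin 2) (Fin 2) F) =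
      !![e, 0; 0, e] := rfl

theorem scal_central (e : F) (he : e * e = 1) (c : Matrix.SpecialLinearGroup (Fin 2) F) :
    c * scal e he * c⁻¹ = scal e he := by
  rw [mul_inv_eq_iff_eq_mul]
  apply Subtype.ext
  rw [Matrix.SpecialLinearGroup.coe_mul, Matrix.SpecialLinearGroup.coe_mul, scal_val]
  have h := Matrix.eta_fin_two (c : Matrix (Fin 2) (Fin 2) F)
  rw [h]
  simp [mul_comm]

theorem isConj_scal_iff (e : F) (he : e * e = 1) (g : Matrix.SpecialLinearGroup (Fin 2) F) :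
    IsConj (scal e he) g ↔ g = scal e he := by
  constructor
  · intro h
    rw [isConj_iff] at h
    obtain ⟨c, hc⟩ := h
    rw [scal_central] at hc
    exact hc.symm
  · rintro rfl
    exact IsConj.refl _

theorem trace_conj (c g : Matrix.SpecialLinearGroup (Fin 2) F) :
    ((c * g * c⁻¹ : Matrix.SpecialLinearGroup (Fin 2) F) : Matrix (Fin 2) (Fin 2) F).trace =
      (g : Matrix (Fin 2) (Fin 2) F).trace := by
  rw [Matrix.SpecialLinearGroup.coe_mul, Matrix.SpecialLinearGroup.coe_mul, Matrix.trace_mul_comm,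
    ← Matrix.mul_assoc, ← Matrix.SpecialLinearGroup.coe_mul]
  simp

theorem trace_eq_of_isConj {g h : Matrix.SpecialLinearGroup (Fin 2) F} (hc : IsConj g h) :
    (g : Matrix (Fin 2) (Fin 2) F).trace = (h : Matrix (Fin 2) (Fin 2) F).trace := by
  rw [isConj_iff] at hc
  obtain ⟨c, rfl⟩ := hc
  exact (trace_conj c g).symm

theorem aux (a b c d x y : F) (l : Fˣ) (hdet : a * d - b * c = 1)
    (hl : c * x ^ 2 + (d - a) * x * y - b * y ^ 2 = (l : F)) :
    ∃ P : Matrix (Fin 2) (Fin 2) F, P.det = 1 ∧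
      P * !![0, -(l : F)⁻¹; (l : F), a + d] = !![a, b; c, d] * P := by
  have hl0 : (l : F) ≠ 0 := l.ne_zero
  refine ⟨!![x, (l : F)⁻¹ * (a * x + b * y); y, (l : F)⁻¹ * (c * x + d * y)], ?_, ?_⟩
  · rw [Matrix.det_fin_two_of]
    field_simp
    linear_combination hl
  · simp only [Matrix.mul_fin_two]
    ext i j
    fin_cases i <;> fin_cases j <;> simp <;> field_simp
    · linear_combination x * hdet
    · linear_combination y * hdet

/-- If the form `c x² + (d - a) x y - b y²` of `g = [[a, b], [c, d]]` takes the value `l ≠ 0`,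
then `g` is conjugate in `SL_2` to `Mmat l (a + d)`. -/
theorem isConj_Mmat (g : Matrix.SpecialLinearGroup (Fin 2) F) (x y : F) (l : Fˣ)
    (hl : (g : Matrix (Fin 2) (Fin 2) F) 1 0 * x ^ 2 +
      ((g : Matrix (Fin 2) (Fin 2) F) 1 1 - (g : Matrix (Fin 2) (Fin 2) F) 0 0) * x * y -
      (g : Matrix (Fin 2) (Fin 2) F) 0 1 * y ^ 2 = (l : F)) :
    IsConj (Mmat l ((g : Matrix (Fin 2) (Fin 2) F) 0 0 + (g : Matrix (Fin 2) (Fin 2) F) 1 1)) g := by
  have hdet : (g : Matrix (Fin 2) (Fin 2) F) 0 0 * (g : Matrix (Fin 2) (Fin 2) F) 1 1 -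
      (g : Matrix (Fin 2) (Fin 2) F) 0 1 * (g : Matrix (Fin 2) (Fin 2) F) 1 0 = 1 := by
    rw [← Matrix.det_fin_two]; exact g.2
  obtain ⟨P, hP, hPg⟩ := aux _ _ _ _ x y l hdet hl
  rw [← Matrix.eta_fin_two] at hPg
  rw [isConj_iff]
  obtain ⟨Q, hQ⟩ : ∃ Q : Matrix.SpecialLinearGroup (Fin 2) F,
      (Q : Matrix (Fin 2) (Fin 2) F) = P := ⟨⟨P, hP⟩, rfl⟩
  refine ⟨Q, ?_⟩
  rw [mul_inv_eq_iff_eq_mul]
  apply Subtype.ext
  rw [Matrix.SpecialLinearGroup.coe_mul, Matrix.SpecialLinearGroup.coe_mul, Mmat_val, hQ]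
  exact hPg

/-- `Mmat l t` is conjugate to `Mmat (l * s²) t`. -/
theorem isConj_Mmat_sq (l s : Fˣ) (t : F) : IsConj (Mmat (l * s ^ 2) t) (Mmat l t) := by
  have h := isConj_Mmat (Mmat l t) (s : F) 0 (l * s ^ 2)
    (by simp [Mmat_00, Mmat_01, Mmat_10, Mmat_11])
  simpa [Mmat_00, Mmat_01, Mmat_10, Mmat_11] using h

/-- If `Mmat l (2e)` and `Mmat m (2e)` are conjugate (with `e² = 1`), then `m / l` is a square. -/
theorem sq_of_isConj_Mmat (l m : Fˣ) (e : F) (he : e * e = 1)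
    (h : IsConj (Mmat l (2 * e)) (Mmat m (2 * e))) : ∃ s : F, (m : F) = l * s ^ 2 := by
  rw [isConj_iff] at h
  obtain ⟨c, hc⟩ := h
  rw [mul_inv_eq_iff_eq_mul] at hc
  have hc' := congrArg (fun x : Matrix.SpecialLinearGroup (Fin 2) F =>
    (x : Matrix (Fin 2) (Fin 2) F)) hc
  simp only [Matrix.SpecialLinearGroup.coe_mul] at hc'
  have hdet : (c : Matrix (Fin 2) (Fin 2) F) 0 0 * (c : Matrix (Fin 2) (Fin 2) F) 1 1 -
      (c : Matrix (Fin 2) (Fin 2) F) 0 1 * (c : Matrix (Fin 2) (Fin 2) F) 1 0 = 1 := by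
    rw [← Matrix.det_fin_two]; exact c.2
  have h3 := congrFun (congrFun hc' 1) 0
  have h4 := congrFun (congrFun hc' 1) 1
  simp only [Matrix.mul_apply, Fin.sum_univ_two, Mmat_00, Mmat_01, Mmat_10, Mmat_11] at h3 h4
  have hl0 : (l : F) ≠ 0 := l.ne_zero
  refine ⟨(c : Matrix (Fin 2) (Fin 2) F) 1 1 - e * (l : F)⁻¹ * (c : Matrix (Fin 2) (Fin 2) F) 1 0, ?_⟩
  have h4' : (c : Matrix (Fin 2) (Fin 2) F) 1 0 * (l : F)⁻¹ =
      -((m : F) * (c : Matrix (Fin 2) (Fin 2) F) 0 1) := by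
    linear_combination (-1 : F) * h4
  have key : (m : F) = (c : Matrix (Fin 2) (Fin 2) F) 1 1 * ((c : Matrix (Fin 2) (Fin 2) F) 1 1 * l
      - 2 * e * (c : Matrix (Fin 2) (Fin 2) F) 1 0) + (c : Matrix (Fin 2) (Fin 2) F) 1 0 *
      ((c : Matrix (Fin 2) (Fin 2) F) 1 0 * (l : F)⁻¹) := by
    rw [h4']
    linear_combination (-(m : F)) * hdet - (c : Matrix (Fin 2) (Fin 2) F) 1 1 * h3
  rw [key]
  field_simp
  linear_combination (-((c : Matrix (Fin 2) (Fin 2) F) 1 0) ^ 2) * he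

end Cfsg.Agent.Lib.Helper39.SL2Conj
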