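import Mathlib

/-!
Group theory of finite simple CT-groups (commutativity is transitive on the nonidentity
elements): the centralizer `C` of an involution `t` is an abelian TI-subgroup, its normalizer
is transitive on the involutions of `C`, and various counting statements.
-/

set_option autoImplicit false

namespace Cfsg.Agent.Lib.Helper39.CTGroup

open Subgroup

/-- Commutativity is transitive on the nonidentity elements. -/
def CT (G : Type*) [Group G] : Prop :=
  ∀ a b c : G, a ≠ 1 → b ≠ 1 → c ≠ 1 → Commute a b → Commute b c → Commute a c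

section basic

variable {G : Type*} [Group G]

theorem cent_comm (hCT : CT G) {x : G} (hx : x ≠ 1) {a b : G}
    (ha : a ∈ centralizer ({x} : Set G)) (hb : b ∈ centralizer ({x} : Set G)) :
    a * b = b * a := by
  by_cases ha1 : a = 1
  · subst ha1; simp
  by_cases hb1 : b = 1
  · subst hb1; simp
  rw [mem_centralizer_singleton_iff] at ha hb
  exact (hCT a x b ha1 hx hb1 ha hb.symm).eq

theorem cent_eq (hCT : CT G) {x y : G} (hx : x ≠ 1) (hy : y ≠ 1)
    (hxy : y ∈ centralizer ({x} : Set G)) :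
    centralizer ({y} : Set G) = centralizer ({x} : Set G) := by
  rw [mem_centralizer_singleton_iff] at hxy
  ext z
  rw [mem_centralizer_singleton_iff, mem_centralizer_singleton_iff]
  by_cases hz : z = 1
  · subst hz; simp
  constructor
  · intro h
    exact (hCT z y x hz hy hx h hxy).eq
  · intro h
    exact (hCT z x y hz hx hy h hxy.symm).eq

theorem self_mem_cent (t : G) : t ∈ centralizer ({t} : Set G) :=
  mem_centralizer_singleton_iff.mpr rfl

theorem conj_ne_one {g y : G} (hy : y ≠ 1) : g * y * g⁻¹ ≠ 1 := by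
  intro h0
  apply hy
  have h : y = g⁻¹ * (g * y * g⁻¹) * g := by group
  rw [h, h0]
  group

theorem conj_sq {g y : G} (hy : y ^ 2 = 1) : (g * y * g⁻¹) ^ 2 = 1 := by
  rw [conj_pow, hy]
  group

theorem inv_eq_self_of_sq {u : G} (hu : u ^ 2 = 1) : u⁻¹ = u := by
  rw [inv_eq_iff_mul_eq_one, ← sq]
  exact hu

/-- The centralizer of a nonidentity element is a TI-subgroup. -/
theorem ti (hCT : CT G) {t : G} (ht : t ≠ 1) (g y : G) (hy : y ∈ centralizer ({t} : Set G))
    (hy1 : y ≠ 1) (h : g⁻¹ * y * g ∈ centralizer ({t} : Set G)) :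
    g ∈ normalizer ((centralizer ({t} : Set G) : Subgroup G) : Set G) := by
  have h1 := cent_eq hCT ht hy1 hy
  have hne : g⁻¹ * y * g ≠ 1 := by
    have := conj_ne_one (g := g⁻¹) hy1
    rwa [inv_inv] at this
  have h2 := cent_eq hCT ht hne h
  rw [mem_normalizer_iff'']
  intro z
  constructor
  · intro hz
    rw [← h1, mem_centralizer_singleton_iff] at hz
    rw [← h2, mem_centralizer_singleton_iff]
    calc g⁻¹ * z * g * (g⁻¹ * y * g) = g⁻¹ * (z * y) * g := by group
      _ = g⁻¹ * (y * z) * g := by rw [hz]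
      _ = g⁻¹ * y * g * (g⁻¹ * z * g) := by group
  · intro hz
    rw [← h2, mem_centralizer_singleton_iff] at hz
    rw [← h1, mem_centralizer_singleton_iff]
    have e1 : z * y = g * (g⁻¹ * z * g * (g⁻¹ * y * g)) * g⁻¹ := by group
    rw [e1, hz]
    group

/-- Two non-commuting involutions of a finite CT-group are conjugate. -/
theorem conj_invol [Finite G] (hCT : CT G) {u w : G} (hu1 : u ≠ 1) (hu : u ^ 2 = 1)
    (hw1 : w ≠ 1) (hw : w ^ 2 = 1) (hnc : ¬ Commute u w) : ∃ h : G, h * u * h⁻¹ = w := by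
  have hui : u⁻¹ = u := inv_eq_self_of_sq hu
  have hwi : w⁻¹ = w := inv_eq_self_of_sq hw
  have huu : u * u = 1 := by rw [← sq]; exact hu
  have hww : w * w = 1 := by rw [← sq]; exact hw
  obtain ⟨r, hr⟩ : ∃ r : G, r = u * w := ⟨_, rfl⟩
  have hri : r⁻¹ = w * u := by rw [hr, mul_inv_rev, hwi, hui]
  have hur : u * r * u⁻¹ = r⁻¹ := by
    rw [hri, hui, hr, ← mul_assoc, huu, one_mul]
  have hwr : w * r * w⁻¹ = r⁻¹ := by
    rw [hri, hwi, hr, mul_assoc, mul_assoc, hww, mul_one]
  have hurk : ∀ k : ℕ, u * r ^ k * u = (r ^ k)⁻¹ := by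
    intro k
    have h := conj_pow (a := u) (b := r) (i := k)
    rw [hur, hui, inv_pow] at h
    exact h.symm
  have hwrk : ∀ k : ℕ, w * r ^ k * w = (r ^ k)⁻¹ := by
    intro k
    have h := conj_pow (a := w) (b := r) (i := k)
    rw [hwr, hwi, inv_pow] at h
    exact h.symm
  rcases Nat.even_or_odd (orderOf r) with hev | hodd
  · exfalso
    obtain ⟨m, hm⟩ := hev
    have hpos : 0 < orderOf r := orderOf_pos r
    have hm0 : 0 < m := by omega
    obtain ⟨z, hz⟩ : ∃ z : G, z = r ^ m := ⟨_, rfl⟩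
    have hz1 : z ≠ 1 := by
      intro h0
      rw [hz] at h0
      have h1 := orderOf_dvd_of_pow_eq_one h0
      have h2 := Nat.le_of_dvd hm0 h1
      omega
    have hz2 : z * z = 1 := by
      rw [hz, ← pow_add, ← hm, pow_orderOf_eq_one]
    have hzi : z⁻¹ = z := inv_eq_of_mul_eq_one_right hz2
    have huz : Commute u z := by
      have h := hurk m
      rw [← hz, hzi] at h
      show u * z = z * u
      calc u * z = u * z * u * u⁻¹ := by group
        _ = z * u := by rw [h, hui]
    have hzw : Commute z w := by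
      have h := hwrk m
      rw [← hz, hzi] at h
      show z * w = w * z
      calc z * w = w⁻¹ * (w * z * w) := by group
        _ = w * z := by rw [h, hwi]
    exact hnc (hCT u z w hu1 hz1 hw1 huz hzw)
  · obtain ⟨j, hj⟩ := hodd
    refine ⟨r ^ j, ?_⟩
    have h := hurk j
    have h2 : r ^ j * r ^ j = r⁻¹ := by
      rw [← pow_add]
      have h3 : r ^ (j + j) * r = 1 := by
        rw [← pow_succ, show j + j + 1 = orderOf r by omega, pow_orderOf_eq_one]
      exact eq_inv_of_mul_eq_one_left h3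
    rw [← h]
    calc r ^ j * u * (u * r ^ j * u) = r ^ j * (u * u) * r ^ j * u := by group
      _ = r ^ j * r ^ j * u := by rw [huu, mul_one]
      _ = r⁻¹ * u := by rw [h2]
      _ = w := by rw [hri, mul_assoc, huu, mul_one]

end basic

section simple

variable {G : Type*} [Group G] [Finite G] [IsSimpleGroup G]

/-- Some conjugate of `t` lies outside the centralizer of `t`. -/
theorem exists_conj_not_mem (hG : ¬ ∀ a b : G, a * b = b * a) (hCT : CT G) {t : G}
    (ht1 : t ≠ 1) : ∃ g : G, g * t * g⁻¹ ∉ centralizer ({t} : Set G) := by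
  by_contra hcon
  push_neg at hcon
  have hmem : t ∈ (centralizer ({t} : Set G)).normalCore := fun b => hcon b
  have hnorm : (centralizer ({t} : Set G)).normalCore.Normal := inferInstance
  rcases hnorm.eq_bot_or_eq_top with h | h
  · rw [h, mem_bot] at hmem
    exact ht1 hmem
  · have htop : centralizer ({t} : Set G) = ⊤ := top_le_iff.mp (h ▸ normalCore_le _)
    apply hG
    intro a b
    exact cent_comm hCT ht1 (by rw [htop]; trivial) (by rw [htop]; trivial)

/-- All involutions of the centralizer of `t` are conjugate to `t`. -/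
theorem exists_conj_of_invol (hG : ¬ ∀ a b : G, a * b = b * a) (hCT : CT G) {t : G}
    (ht1 : t ≠ 1) (ht : t ^ 2 = 1) {u : G} (huC : u ∈ centralizer ({t} : Set G))
    (hu1 : u ≠ 1) (hu : u ^ 2 = 1) : ∃ h : G, h * t * h⁻¹ = u := by
  obtain ⟨g, hg⟩ := exists_conj_not_mem hG hCT ht1
  obtain ⟨w, hw⟩ : ∃ w : G, w = g * t * g⁻¹ := ⟨_, rfl⟩
  rw [← hw] at hg
  have hw1 : w ≠ 1 := by rw [hw]; exact conj_ne_one ht1
  have hw2 : w ^ 2 = 1 := by rw [hw]; exact conj_sq ht
  have hnc : ¬ Commute u w := by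
    intro hc
    have h1 := cent_eq hCT ht1 hu1 huC
    apply hg
    rw [← h1, mem_centralizer_singleton_iff]
    exact hc.eq.symm
  obtain ⟨h, hh⟩ := conj_invol hCT hu1 hu hw1 hw2 hnc
  refine ⟨h⁻¹ * g, ?_⟩
  calc h⁻¹ * g * t * (h⁻¹ * g)⁻¹ = h⁻¹ * (g * t * g⁻¹) * h := by group
    _ = h⁻¹ * (h * u * h⁻¹) * h := by rw [← hw, hh]
    _ = u := by group

/-- The normalizer of the centralizer of an involution is strictly larger than it. -/
theorem normalizer_not_le (hG : ¬ ∀ a b : G, a * b = b * a) (hCT : CT G) {t : G}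
    (ht1 : t ≠ 1) (ht : t ^ 2 = 1) :
    ¬ (normalizer ((centralizer ({t} : Set G) : Subgroup G) : Set G)
        ≤ centralizer ({t} : Set G)) := by
  intro hNC
  haveI : Fact (Nat.Prime 2) := ⟨Nat.prime_two⟩
  have hpg : IsPGroup 2 (zpowers t) := by
    apply IsPGroup.of_card (n := 1)
    rw [Nat.card_zpowers, pow_one]
    exact orderOf_eq_prime ht ht1
  obtain ⟨P, hP⟩ := hpg.exists_le_sylow
  have htP : t ∈ (P : Subgroup G) := hP (mem_zpowers t)
  have hPC : (P : Subgroup G) ≤ centralizer ({t} : Set G) := by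
    haveI : Nontrivial (P : Subgroup G) :=
      ⟨⟨⟨t, htP⟩, 1, fun h => ht1 (congrArg Subtype.val h)⟩⟩
    haveI := IsPGroup.center_nontrivial P.isPGroup'
    obtain ⟨z, hz1⟩ := exists_ne (1 : center (P : Subgroup G))
    have hzc : ∀ x : (P : Subgroup G), x * z.1 = z.1 * x := fun x =>
      (mem_center_iff.mp z.2 x)
    have hzG1 : ((z.1 : (P : Subgroup G)) : G) ≠ 1 := by
      intro h
      apply hz1
      apply Subtype.ext
      apply Subtype.ext
      exact h
    have hzt : ((z.1 : (P : Subgroup G)) : G) ∈ centralizer ({t} : Set G) := by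
      rw [mem_centralizer_singleton_iff]
      exact (congrArg Subtype.val (hzc ⟨t, htP⟩)).symm
    have hCz := cent_eq hCT ht1 hzG1 hzt
    intro x hx
    rw [← hCz, mem_centralizer_singleton_iff]
    exact congrArg Subtype.val (hzc ⟨x, hx⟩)
  have hNP : normalizer ((P : Subgroup G) : Set G) ≤ centralizer ((P : Subgroup G) : Set G) := by
    intro n hn
    have h1 : n * t * n⁻¹ ∈ (P : Subgroup G) := (mem_normalizer_iff.mp hn t).mp htP
    have h2 : n⁻¹ ∈ normalizer ((centralizer ({t} : Set G) : Subgroup G) : Set G) := by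
      apply ti hCT ht1 n⁻¹ t (self_mem_cent t) ht1
      rw [inv_inv]
      exact hPC h1
    have h3 : n ∈ centralizer ({t} : Set G) := hNC (inv_mem_iff.mp h2)
    rw [mem_centralizer_iff]
    intro x hx
    exact cent_comm hCT ht1 (hPC hx) h3
  have hcomp := MonoidHom.ker_transferSylow_isComplement' P hNP
  have hcard := hcomp.card_mul_card
  rcases (MonoidHom.normal_ker (MonoidHom.transferSylow P hNP)).eq_bot_or_eq_top with h | h
  · rw [h, card_bot, one_mul] at hcard
    have hPtop : (P : Subgroup G) = ⊤ := (card_eq_iff_eq_top _).mp hcard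
    apply hG
    intro a b
    exact cent_comm hCT ht1 (hPC (by rw [hPtop]; trivial)) (hPC (by rw [hPtop]; trivial))
  · rw [h, card_top] at hcard
    have h1 : Nat.card (P : Subgroup G) = 1 := by
      have hpos : 0 < Nat.card G := Nat.card_pos
      exact Nat.eq_of_mul_eq_mul_left hpos (by rw [hcard, mul_one])
    have hbot := (card_eq_one.mp h1)
    rw [hbot, mem_bot] at htP
    exact ht1 htP

/-- A third involution in the centralizer of `t`. -/
theorem exists_third (hG : ¬ ∀ a b : G, a * b = b * a) (hCT : CT G) {t : G}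
    (ht1 : t ≠ 1) (ht : t ^ 2 = 1) :
    ∃ u : G, u ∈ centralizer ({t} : Set G) ∧ u ≠ 1 ∧ u ≠ t ∧ u ^ 2 = 1 := by
  have h := normalizer_not_le hG hCT ht1 ht
  rw [SetLike.not_le_iff_exists] at h
  obtain ⟨g, hgN, hgC⟩ := h
  refine ⟨g * t * g⁻¹, (mem_normalizer_iff.mp hgN t).mp (self_mem_cent t), conj_ne_one ht1, ?_,
    conj_sq ht⟩
  intro h0
  apply hgC
  rw [mem_centralizer_singleton_iff]
  calc g * t = g * t * g⁻¹ * g := by group
    _ = t * g := by rw [h0]

/-- `|C|² ≤ |G|`. -/
theorem card_sq_le (hG : ¬ ∀ a b : G, a * b = b * a) (hCT : CT G) {t : G} (ht1 : t ≠ 1) :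
    Nat.card (centralizer ({t} : Set G)) ^ 2 ≤ Nat.card G := by
  have hN : ∃ g : G, g ∉ normalizer ((centralizer ({t} : Set G) : Subgroup G) : Set G) := by
    by_contra hcon
    push_neg at hcon
    have hnorm : (centralizer ({t} : Set G)).Normal :=
      normalizer_eq_top_iff.mp (eq_top_iff.mpr (fun g _ => hcon g))
    rcases hnorm.eq_bot_or_eq_top with h | h
    · have h1 := self_mem_cent t
      rw [h, mem_bot] at h1
      exact ht1 h1
    · apply hG
      intro a b
      exact cent_comm hCT ht1 (by rw [h]; trivial) (by rw [h]; trivial)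
  obtain ⟨g, hg⟩ := hN
  rw [sq, ← Nat.card_prod]
  apply Nat.card_le_card_of_injective
    (fun p : centralizer ({t} : Set G) × centralizer ({t} : Set G) =>
      (p.1 : G) * (g * (p.2 : G) * g⁻¹))
  rintro ⟨a, b⟩ ⟨a', b'⟩ hab
  have hab' : (a : G) * (g * (b : G) * g⁻¹) = (a' : G) * (g * (b' : G) * g⁻¹) := hab
  have h1 : (a' : G)⁻¹ * a = g * ((b' : G) * (b : G)⁻¹) * g⁻¹ := by
    have e1 : (a' : G)⁻¹ * a = (a' : G)⁻¹ * ((a : G) * (g * (b : G) * g⁻¹)) * (g * b * g⁻¹)⁻¹ := by
      group
    rw [e1, hab']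
    group
  by_cases hb : (b' : G) * (b : G)⁻¹ = 1
  · have hbb : b' = b := Subtype.ext (mul_inv_eq_one.mp hb)
    rw [hb, mul_one, mul_inv_cancel] at h1
    have haa : a = a' := Subtype.ext (inv_mul_eq_one.mp h1).symm
    rw [hbb, haa]
  · exfalso
    apply hg
    have h2 : g⁻¹ ∈ normalizer ((centralizer ({t} : Set G) : Subgroup G) : Set G) := by
      apply ti hCT ht1 g⁻¹ ((b' : G) * (b : G)⁻¹) (mul_mem b'.2 (inv_mem b.2)) hb
      rw [inv_inv, ← h1]
      exact mul_mem (inv_mem a'.2) a.2
    exact inv_mem_iff.mp h2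

end simple

end Cfsg.Agent.Lib.Helper39.CTGroup
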