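import Mathlib
import Cfsg.Agent.Lib.Helper39.CTGroup

/-!
Counting statements for the centralizer `C` of an involution `t` in a finite simple CT-group.
-/

set_option autoImplicit false

namespace Cfsg.Agent.Lib.Helper39.CTCount

open Subgroup Cfsg.Agent.Lib.Helper39.CTGroup

open scoped Classical in
/-- The elements of the centralizer of `t` of square one. -/
noncomputable def Vs {G : Type*} [Group G] [Fintype G] (t : G) : Finset G :=
  Finset.univ.filter (fun u : G => u ∈ centralizer ({t} : Set G) ∧ u ^ 2 = 1)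

section

variable {G : Type*} [Group G] [Fintype G]

theorem mem_Vs {t u : G} : u ∈ Vs t ↔ u ∈ centralizer ({t} : Set G) ∧ u ^ 2 = 1 := by
  classical
  rw [Vs, Finset.mem_filter]
  simp

theorem one_mem_Vs (t : G) : (1 : G) ∈ Vs t := mem_Vs.mpr ⟨one_mem _, one_pow 2⟩

theorem self_mem_Vs {t : G} (ht : t ^ 2 = 1) : t ∈ Vs t := mem_Vs.mpr ⟨self_mem_cent t, ht⟩

theorem mul_mem_Vs (hCT : CT G) {t : G} (ht1 : t ≠ 1) {u v : G} (hu : u ∈ Vs t)
    (hv : v ∈ Vs t) : u * v ∈ Vs t := by
  rw [mem_Vs] at hu hv ⊢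
  refine ⟨mul_mem hu.1 hv.1, ?_⟩
  have hc := cent_comm hCT ht1 hu.1 hv.1
  have huu : u * u = 1 := by rw [← sq]; exact hu.2
  have hvv : v * v = 1 := by rw [← sq]; exact hv.2
  rw [sq]
  calc u * v * (u * v) = u * (v * u) * v := by group
    _ = u * (u * v) * v := by rw [hc]
    _ = (u * u) * (v * v) := by group
    _ = 1 := by rw [huu, hvv, one_mul]

variable [IsSimpleGroup G]

open scoped Classical in
/-- The number of elements conjugating `t` to a given involution of its centralizer. -/
theorem card_fiber (hG : ¬ ∀ a b : G, a * b = b * a) (hCT : CT G) {t : G}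
    (ht1 : t ≠ 1) (ht : t ^ 2 = 1) {u : G} (huC : u ∈ centralizer ({t} : Set G))
    (hu1 : u ≠ 1) (hu : u ^ 2 = 1) :
    (Finset.univ.filter (fun g : G => g * t * g⁻¹ = u)).card
      = Nat.card (centralizer ({t} : Set G)) := by
  obtain ⟨h, hh⟩ := exists_conj_of_invol hG hCT ht1 ht huC hu1 hu
  rw [← Fintype.card_subtype, ← Nat.card_eq_fintype_card]
  apply Nat.card_congr
  exact
    { toFun := fun g => ⟨h⁻¹ * g.1, by
        rw [mem_centralizer_singleton_iff]
        have h1 : g.1 * t * g.1⁻¹ = h * t * h⁻¹ := g.2.trans hh.symm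
        calc h⁻¹ * g.1 * t = h⁻¹ * (g.1 * t * g.1⁻¹) * g.1 := by group
          _ = h⁻¹ * (h * t * h⁻¹) * g.1 := by rw [h1]
          _ = t * (h⁻¹ * g.1) := by group⟩
      invFun := fun x => ⟨h * x.1, by
        have hx := mem_centralizer_singleton_iff.mp x.2
        calc h * x.1 * t * (h * x.1)⁻¹ = h * (x.1 * t) * x.1⁻¹ * h⁻¹ := by group
          _ = h * (t * x.1) * x.1⁻¹ * h⁻¹ := by rw [hx]
          _ = h * t * h⁻¹ := by group
          _ = u := hh⟩
      left_inv := fun g => Subtype.ext (by simp)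
      right_inv := fun x => Subtype.ext (by simp) }

open scoped Classical in
/-- Summation over the conjugates of `t` of a function vanishing outside the centralizer. -/
theorem sum_conj {R : Type*} [CommSemiring R] (hG : ¬ ∀ a b : G, a * b = b * a) (hCT : CT G)
    {t : G} (ht1 : t ≠ 1) (ht : t ^ 2 = 1) (E : G → R)
    (hE : ∀ u, u ∉ centralizer ({t} : Set G) → E u = 0) :
    ∑ x : G, E (x * t * x⁻¹)
      = (Nat.card (centralizer ({t} : Set G)) : R) * ∑ u ∈ (Vs t).erase 1, E u := by
  have hmaps : ∀ x ∈ (Finset.univ.filter (fun x : G => x * t * x⁻¹ ∈ centralizer ({t} : Set G))),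
      x * t * x⁻¹ ∈ (Vs t).erase 1 := by
    intro x hx
    rw [Finset.mem_filter] at hx
    rw [Finset.mem_erase, mem_Vs]
    exact ⟨conj_ne_one ht1, hx.2, conj_sq ht⟩
  calc ∑ x : G, E (x * t * x⁻¹)
      = ∑ x ∈ Finset.univ.filter (fun x : G => x * t * x⁻¹ ∈ centralizer ({t} : Set G)),
          E (x * t * x⁻¹) := by
        symm
        apply Finset.sum_filter_of_ne
        intro x _ hx
        by_contra hxC
        exact hx (hE _ hxC)
    _ = ∑ u ∈ (Vs t).erase 1,
          ∑ x ∈ (Finset.univ.filter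
            (fun x : G => x * t * x⁻¹ ∈ centralizer ({t} : Set G))) with x * t * x⁻¹ = u,
            E (x * t * x⁻¹) :=
        (Finset.sum_fiberwise_of_maps_to hmaps _).symm
    _ = ∑ u ∈ (Vs t).erase 1, (Nat.card (centralizer ({t} : Set G)) : R) * E u := by
        apply Finset.sum_congr rfl
        intro u hu
        rw [Finset.mem_erase, mem_Vs] at hu
        have hcard := card_fiber hG hCT ht1 ht hu.2.1 hu.1 hu.2.2
        have hfil : (Finset.univ.filter
            (fun x : G => x * t * x⁻¹ ∈ centralizer ({t} : Set G))).filter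
              (fun x => x * t * x⁻¹ = u)
            = Finset.univ.filter (fun x : G => x * t * x⁻¹ = u) := by
          ext x
          simp only [Finset.mem_filter, Finset.mem_univ, true_and]
          constructor
          · exact fun h => h.2
          · intro h
            exact ⟨by rw [h]; exact hu.2.1, h⟩
        rw [hfil, Finset.sum_congr rfl (fun x hx => by rw [(Finset.mem_filter.mp hx).2]),
          Finset.sum_const, hcard, nsmul_eq_mul]
    _ = _ := by rw [Finset.mul_sum]

/-- The order of the normalizer of the centralizer `C` of `t`. -/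
theorem card_normalizer (hG : ¬ ∀ a b : G, a * b = b * a) (hCT : CT G)
    {t : G} (ht1 : t ≠ 1) (ht : t ^ 2 = 1) :
    Nat.card (normalizer ((centralizer ({t} : Set G) : Subgroup G) : Set G))
      = Nat.card (centralizer ({t} : Set G)) * ((Vs t).card - 1) := by
  classical
  have h := sum_conj (R := ℕ) hG hCT ht1 ht
    (fun u => if u ∈ centralizer ({t} : Set G) then 1 else 0)
    (fun u hu => by rw [if_neg hu])
  have h2 : ∑ u ∈ (Vs t).erase 1, (if u ∈ centralizer ({t} : Set G) then 1 else 0)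
      = (Vs t).card - 1 := by
    rw [← Finset.card_erase_of_mem (one_mem_Vs t), Finset.card_eq_sum_ones]
    apply Finset.sum_congr rfl
    intro u hu
    rw [Finset.mem_erase, mem_Vs] at hu
    rw [if_pos hu.2.1]
  rw [h2] at h
  have h3 : ∑ x : G, (if x * t * x⁻¹ ∈ centralizer ({t} : Set G) then 1 else 0)
      = Nat.card (normalizer ((centralizer ({t} : Set G) : Subgroup G) : Set G)) := by
    rw [Nat.card_eq_fintype_card, Fintype.card_subtype, Finset.card_filter]
    apply Finset.sum_congr rfl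
    intro x _
    have hiff : x * t * x⁻¹ ∈ centralizer ({t} : Set G)
        ↔ x ∈ normalizer ((centralizer ({t} : Set G) : Subgroup G) : Set G) := by
      constructor
      · intro hx
        have h4 : x⁻¹ ∈ normalizer ((centralizer ({t} : Set G) : Subgroup G) : Set G) := by
          apply ti hCT ht1 x⁻¹ t (self_mem_cent t) ht1
          rw [inv_inv]
          exact hx
        exact inv_mem_iff.mp h4
      · intro hx
        exact (mem_normalizer_iff.mp hx t).mp (self_mem_cent t)
    simp only [hiff]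
  rw [← h3]
  exact h

open scoped Classical in
/-- The class constant `a_{t,t,t}`. -/
theorem pair_count_t (hG : ¬ ∀ a b : G, a * b = b * a) (hCT : CT G)
    {t : G} (ht1 : t ≠ 1) (ht : t ^ 2 = 1) :
    (Finset.univ.filter (fun p : G × G => p.1 * t * p.1⁻¹ * (p.2 * t * p.2⁻¹) = t)).card
      = Nat.card (centralizer ({t} : Set G)) ^ 2 * ((Vs t).card - 2) := by
  have hti : t⁻¹ = t := inv_eq_self_of_sq ht
  have hmaps : Set.MapsTo (fun p : G × G => p.1 * t * p.1⁻¹)
      ↑(Finset.univ.filter (fun p : G × G => p.1 * t * p.1⁻¹ * (p.2 * t * p.2⁻¹) = t))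
      ↑(((Vs t).erase 1).erase t) := by
    intro p hp
    rw [Finset.mem_coe, Finset.mem_filter] at hp
    have hp2 := hp.2
    obtain ⟨u, hu⟩ : ∃ u : G, u = p.1 * t * p.1⁻¹ := ⟨_, rfl⟩
    obtain ⟨v, hv⟩ : ∃ v : G, v = p.2 * t * p.2⁻¹ := ⟨_, rfl⟩
    rw [← hu, ← hv] at hp2
    show p.1 * t * p.1⁻¹ ∈ ((Vs t).erase 1).erase t
    rw [← hu]
    have hu2 : u ^ 2 = 1 := by rw [hu]; exact conj_sq ht
    have hv2 : v ^ 2 = 1 := by rw [hv]; exact conj_sq ht
    have hu1 : u ≠ 1 := by rw [hu]; exact conj_ne_one ht1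
    have hv1 : v ≠ 1 := by rw [hv]; exact conj_ne_one ht1
    have hui : u⁻¹ = u := inv_eq_self_of_sq hu2
    have hvut : v = u * t := by
      calc v = u⁻¹ * (u * v) := by group
        _ = u * t := by rw [hp2, hui]
    have hut : u * t = t * u := by
      have h1 : (u * t) * (u * t) = 1 := by rw [← hvut, ← sq]; exact hv2
      have h2 : u * t = (u * t)⁻¹ := eq_inv_of_mul_eq_one_left h1
      rw [mul_inv_rev, hti, hui] at h2
      exact h2
    rw [Finset.mem_erase, Finset.mem_erase, mem_Vs]
    refine ⟨?_, hu1, mem_centralizer_singleton_iff.mpr hut, hu2⟩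
    intro h
    apply hv1
    rw [hvut, h, ← sq, ht]
  rw [Finset.card_eq_sum_card_fiberwise hmaps]
  have hfib : ∀ u ∈ ((Vs t).erase 1).erase t,
      ((Finset.univ.filter (fun p : G × G => p.1 * t * p.1⁻¹ * (p.2 * t * p.2⁻¹) = t)).filter
        (fun p => p.1 * t * p.1⁻¹ = u)).card = Nat.card (centralizer ({t} : Set G)) ^ 2 := by
    intro u hu
    rw [Finset.mem_erase, Finset.mem_erase, mem_Vs] at hu
    obtain ⟨hut, hu1, huC, hu2⟩ := hu
    have hui : u⁻¹ = u := inv_eq_self_of_sq hu2
    have huu : u * u = 1 := by rw [← sq]; exact hu2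
    have hcomm := mem_centralizer_singleton_iff.mp huC
    have h1 := card_fiber hG hCT ht1 ht huC hu1 hu2
    have h2 := card_fiber hG hCT ht1 ht (u := u * t) (mul_mem huC (self_mem_cent t))
      (by
        intro h0
        apply hut
        have := eq_inv_of_mul_eq_one_left h0
        rw [this, hti])
      (by
        rw [sq]
        calc u * t * (u * t) = u * (t * u) * t := by group
          _ = u * (u * t) * t := by rw [hcomm]
          _ = (u * u) * (t * t) := by group
          _ = 1 := by rw [huu, ← sq, ht, one_mul])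
    have heq : (Finset.univ.filter
          (fun p : G × G => p.1 * t * p.1⁻¹ * (p.2 * t * p.2⁻¹) = t)).filter
          (fun p => p.1 * t * p.1⁻¹ = u)
        = (Finset.univ.filter (fun g : G => g * t * g⁻¹ = u)) ×ˢ
          (Finset.univ.filter (fun g : G => g * t * g⁻¹ = u * t)) := by
      ext p
      simp only [Finset.mem_filter, Finset.mem_univ, true_and, Finset.mem_product]
      constructor
      · rintro ⟨h3, h4⟩
        refine ⟨h4, ?_⟩
        rw [h4] at h3
        calc p.2 * t * p.2⁻¹ = u⁻¹ * (u * (p.2 * t * p.2⁻¹)) := by group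
          _ = u * t := by rw [h3, hui]
      · rintro ⟨h3, h4⟩
        refine ⟨?_, h3⟩
        rw [h3, h4, ← mul_assoc, huu, one_mul]
    rw [heq, Finset.card_product, h1, h2, sq]
  rw [Finset.sum_congr rfl hfib, Finset.sum_const, smul_eq_mul, mul_comm]
  congr 1
  rw [Finset.card_erase_of_mem, Finset.card_erase_of_mem (one_mem_Vs t)]
  · rfl
  · rw [Finset.mem_erase]
    exact ⟨ht1, self_mem_Vs ht⟩

open scoped Classical in
/-- The class constant `a_{t,t,x}` vanishes for `x` in the centralizer of `t`, `x² ≠ 1`. -/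
theorem pair_count_x (hCT : CT G)
    {t : G} (ht1 : t ≠ 1) (ht : t ^ 2 = 1) {x0 : G} (hx0 : x0 ∈ centralizer ({t} : Set G))
    (hx02 : x0 ^ 2 ≠ 1) :
    (Finset.univ.filter (fun p : G × G => p.1 * t * p.1⁻¹ * (p.2 * t * p.2⁻¹) = x0)).card
      = 0 := by
  rw [Finset.card_eq_zero, Finset.filter_eq_empty_iff]
  intro p _ hp
  have hti : t⁻¹ = t := inv_eq_self_of_sq ht
  obtain ⟨u, hu⟩ : ∃ u : G, u = p.1 * t * p.1⁻¹ := ⟨_, rfl⟩
  obtain ⟨v, hv⟩ : ∃ v : G, v = p.2 * t * p.2⁻¹ := ⟨_, rfl⟩
  rw [← hu, ← hv] at hp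
  have hu2 : u ^ 2 = 1 := by rw [hu]; exact conj_sq ht
  have hv2 : v ^ 2 = 1 := by rw [hv]; exact conj_sq ht
  have hui : u⁻¹ = u := inv_eq_self_of_sq hu2
  have hvi : v⁻¹ = v := inv_eq_self_of_sq hv2
  have huu : u * u = 1 := by rw [← sq]; exact hu2
  have hx01 : x0 ≠ 1 := by
    intro h
    apply hx02
    rw [h, one_pow]
  have h1 : u * x0 * u = x0⁻¹ := by
    rw [← hp, mul_inv_rev, hui, hvi, ← mul_assoc, huu, one_mul]
  have huN : u ∈ normalizer ((centralizer ({t} : Set G) : Subgroup G) : Set G) := by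
    apply ti hCT ht1 u x0 hx0 hx01
    rw [hui, h1]
    exact inv_mem hx0
  have ht' : u * t * u⁻¹ ∈ centralizer ({t} : Set G) :=
    (mem_normalizer_iff.mp huN t).mp (self_mem_cent t)
  have huC : u ∈ centralizer ({t} : Set G) := by
    by_cases hc : u * t * u⁻¹ = t
    · rw [mem_centralizer_singleton_iff]
      calc u * t = u * t * u⁻¹ * u := by group
        _ = t * u := by rw [hc]
    · obtain ⟨s, hs⟩ : ∃ s : G, s = t * (u * t * u⁻¹) := ⟨_, rfl⟩
      have hsC : s ∈ centralizer ({t} : Set G) := by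
        rw [hs]
        exact mul_mem (self_mem_cent t) ht'
      have hs1 : s ≠ 1 := by
        intro h0
        apply hc
        rw [hs] at h0
        have h3 := eq_inv_of_mul_eq_one_right h0
        rw [h3, hti]
      have hus : u * s = s * u := by
        have hcomm : (u * t * u⁻¹) * t = t * (u * t * u⁻¹) :=
          cent_comm hCT ht1 ht' (self_mem_cent t)
        calc u * s = (u * t * u⁻¹) * (u * u) * t * u⁻¹ := by rw [hs]; group
          _ = (u * t * u⁻¹) * t * u := by rw [huu, mul_one, hui]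
          _ = s * u := by rw [hcomm, hs]
      have hCs := cent_eq hCT ht1 hs1 hsC
      rw [← hCs, mem_centralizer_singleton_iff]
      exact hus
  have hcx : u * x0 = x0 * u := cent_comm hCT ht1 huC hx0
  apply hx02
  have h2 : x0⁻¹ = x0 := by rw [← h1, hcx, mul_assoc, huu, mul_one]
  rw [sq]
  exact mul_eq_one_iff_eq_inv.mpr h2.symm

/-- If the centralizer `C` of `t` is not of exponent two, then `|V|² ≤ |C|`. -/
theorem card_Vs_sq_le (hG : ¬ ∀ a b : G, a * b = b * a) (hCT : CT G)
    {t : G} (ht1 : t ≠ 1) (ht : t ^ 2 = 1) {x0 : G} (hx0 : x0 ∈ centralizer ({t} : Set G))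
    (hx02 : x0 ^ 2 ≠ 1) :
    (Vs t).card ^ 2 ≤ Nat.card (centralizer ({t} : Set G)) := by
  classical
  obtain ⟨Cf, hCf⟩ : ∃ Cf : Finset G,
      Cf = Finset.univ.filter (fun y : G => y ∈ centralizer ({t} : Set G)) := ⟨_, rfl⟩
  have hmemCf : ∀ y : G, y ∈ Cf ↔ y ∈ centralizer ({t} : Set G) := by
    intro y
    rw [hCf, Finset.mem_filter]
    simp
  have hcardC : Nat.card (centralizer ({t} : Set G)) = Cf.card := by
    rw [hCf, Nat.card_eq_fintype_card, Fintype.card_subtype]
  have hsqcomm : ∀ a b : G, a ∈ centralizer ({t} : Set G) → b ∈ centralizer ({t} : Set G) →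
      (a * b) ^ 2 = a ^ 2 * b ^ 2 := by
    intro a b ha hb
    have hc := cent_comm hCT ht1 ha hb
    rw [sq, sq, sq]
    calc a * b * (a * b) = a * (b * a) * b := by group
      _ = a * (a * b) * b := by rw [hc]
      _ = a * a * (b * b) := by group
  -- fibers of the squaring map
  have hfib : ∀ q ∈ Cf.image (fun y : G => y ^ 2),
      (Cf.filter (fun y => y ^ 2 = q)).card = (Vs t).card := by
    intro q hq
    rw [Finset.mem_image] at hq
    obtain ⟨y0, hy0, rfl⟩ := hq
    rw [hmemCf] at hy0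
    have himg : Cf.filter (fun y => y ^ 2 = y0 ^ 2) = (Vs t).image (fun v => y0 * v) := by
      ext y
      rw [Finset.mem_filter, Finset.mem_image, hmemCf]
      constructor
      · rintro ⟨hy, hy2⟩
        refine ⟨y0⁻¹ * y, ?_, by group⟩
        rw [mem_Vs]
        refine ⟨mul_mem (inv_mem hy0) hy, ?_⟩
        rw [hsqcomm _ _ (inv_mem hy0) hy, hy2, inv_pow, inv_mul_cancel]
      · rintro ⟨v, hv, rfl⟩
        rw [mem_Vs] at hv
        refine ⟨mul_mem hy0 hv.1, ?_⟩
        rw [hsqcomm _ _ hy0 hv.1, hv.2, mul_one]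
    rw [himg, Finset.card_image_of_injective _ (mul_right_injective y0)]
  have hsum := Finset.card_eq_sum_card_image (fun y : G => y ^ 2) Cf
  rw [Finset.sum_congr rfl hfib, Finset.sum_const, smul_eq_mul] at hsum
  -- the image is at least as large as `Vs t`
  have hq0 : x0 ^ 2 ∈ centralizer ({t} : Set G) := pow_mem hx0 2
  have hex : ∀ v : G, ∃ h : G, v ∈ (Vs t).erase 1 → h * t * h⁻¹ = v := by
    intro v
    by_cases hv : v ∈ (Vs t).erase 1
    · rw [Finset.mem_erase, mem_Vs] at hv
      obtain ⟨h, hh⟩ := exists_conj_of_invol hG hCT ht1 ht hv.2.1 hv.1 hv.2.2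
      exact ⟨h, fun _ => hh⟩
    · exact ⟨1, fun h => absurd h hv⟩
  choose hc hhc using hex
  have hle : (Vs t).card ≤ (Cf.image (fun y : G => y ^ 2)).card := by
    apply Finset.card_le_card_of_injOn
      (fun v => if v = 1 then 1 else hc v * x0 ^ 2 * (hc v)⁻¹)
    · intro v hv
      show (if v = 1 then 1 else hc v * x0 ^ 2 * (hc v)⁻¹) ∈ Cf.image (fun y : G => y ^ 2)
      rw [Finset.mem_image]
      by_cases hv1 : v = 1
      · rw [if_pos hv1]
        exact ⟨1, (hmemCf 1).mpr (one_mem _), one_pow 2⟩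
      · rw [if_neg hv1]
        have hvm : v ∈ (Vs t).erase 1 := Finset.mem_erase.mpr ⟨hv1, hv⟩
        have hh := hhc v hvm
        have hN : (hc v)⁻¹ ∈ normalizer ((centralizer ({t} : Set G) : Subgroup G) : Set G) := by
          apply ti hCT ht1 (hc v)⁻¹ t (self_mem_cent t) ht1
          rw [inv_inv, hh]
          exact (mem_Vs.mp hv).1
        have hN' := inv_mem_iff.mp hN
        refine ⟨hc v * x0 * (hc v)⁻¹, ?_, ?_⟩
        · rw [hmemCf]
          exact (mem_normalizer_iff.mp hN' x0).mp hx0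
        · rw [conj_pow]
    · intro v hv v' hv' hvv
      have hv : v ∈ Vs t := hv
      have hv' : v' ∈ Vs t := hv'
      have hvv : (if v = 1 then 1 else hc v * x0 ^ 2 * (hc v)⁻¹)
          = (if v' = 1 then 1 else hc v' * x0 ^ 2 * (hc v')⁻¹) := hvv
      by_cases hv1 : v = 1
      · by_cases hv1' : v' = 1
        · rw [hv1, hv1']
        · exfalso
          rw [if_pos hv1, if_neg hv1'] at hvv
          exact conj_ne_one hx02 hvv.symm
      · by_cases hv1' : v' = 1
        · exfalso
          rw [if_neg hv1, if_pos hv1'] at hvv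
          exact conj_ne_one hx02 hvv
        · rw [if_neg hv1, if_neg hv1'] at hvv
          have hh := hhc v (Finset.mem_erase.mpr ⟨hv1, hv⟩)
          have hh' := hhc v' (Finset.mem_erase.mpr ⟨hv1', hv'⟩)
          have hcomm : (hc v')⁻¹ * hc v * x0 ^ 2 = x0 ^ 2 * ((hc v')⁻¹ * hc v) := by
            calc (hc v')⁻¹ * hc v * x0 ^ 2
                = (hc v')⁻¹ * (hc v * x0 ^ 2 * (hc v)⁻¹) * hc v := by group
              _ = (hc v')⁻¹ * (hc v' * x0 ^ 2 * (hc v')⁻¹) * hc v := by rw [hvv]
              _ = x0 ^ 2 * ((hc v')⁻¹ * hc v) := by group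
          have hCq := cent_eq hCT ht1 hx02 hq0
          have hmem : (hc v')⁻¹ * hc v ∈ centralizer ({t} : Set G) := by
            rw [← hCq, mem_centralizer_singleton_iff]
            exact hcomm
          have hct := mem_centralizer_singleton_iff.mp hmem
          rw [← hh, ← hh']
          calc hc v * t * (hc v)⁻¹
              = hc v' * ((hc v')⁻¹ * hc v * t) * ((hc v')⁻¹ * hc v)⁻¹ * (hc v')⁻¹ := by group
            _ = hc v' * (t * ((hc v')⁻¹ * hc v)) * ((hc v')⁻¹ * hc v)⁻¹ * (hc v')⁻¹ := by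
                rw [hct]
            _ = hc v' * t * (hc v')⁻¹ := by group
  rw [hcardC, hsum, sq]
  exact Nat.mul_le_mul_right _ hle

end

end Cfsg.Agent.Lib.Helper39.CTCount
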