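import Mathlib
import Cfsg.Agent.Lib.Helper17.ExcInd
import Cfsg.Agent.Lib.Helper17.ExcMain
import Cfsg.Agent.Lib.CT.IndChar
import Cfsg.Agent.Lib.CT.NormOne
import Cfsg.Agent.Lib.CT.Clifford
import Cfsg.Agent.S0170

/-!
Exceptional characters for an abelian TI-subgroup `P` whose normalizer acts semiregularly on
the nonidentity elements of `P` (Brauer, Suzuki).
-/

set_option autoImplicit false

namespace Cfsg.Agent.Lib.Helper39.CTExc

open Cfsg Subgroup MulAction
open Cfsg.Agent.Lib.CT.FrobRec Cfsg.Agent.Lib.CT.LinChar Cfsg.Agent.Lib.CT.Orth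
open Cfsg.Agent.Lib.CT.Wedderburn Cfsg.Agent.Lib.Helper17.ExcOrb Cfsg.Agent.Lib.Helper17.ExcInd
open Cfsg.Agent.Lib.Helper17.ExcMain
open scoped ComplexConjugate

attribute [local instance] Cfsg.Agent.Lib.Helper17.ExcOrb.dualAction

universe u

section orbits

variable {G : Type u} [Group G] [Finite G] (P : Subgroup G)
  (hcomm : ∀ a b : P, a * b = b * a)
  (hstab : ∀ g : G, g ∈ normalizer (P : Set G) → ∀ y : G, y ∈ P → y ≠ 1 →
    g⁻¹ * y * g = y → g ∈ P)
include hcomm hstab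

theorem smul_eq_self_iff_ab {μ : P →* ℂˣ} (hμ : μ ≠ 1) (g : normalizer (P : Set G)) :
    g • μ = μ ↔ (g : G) ∈ P := by
  constructor
  · intro h
    by_contra hg
    apply hμ
    have hinj : Function.Injective (fun y : P => y⁻¹ * conjP P g y) := by
      intro a b hab
      have hab' : a⁻¹ * conjP P g a = b⁻¹ * conjP P g b := hab
      have h1 : conjP P g a = a * (b⁻¹ * conjP P g b) := by
        rw [← hab']
        group
      have h2 : conjP P g (a * b⁻¹) = a * b⁻¹ := by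
        rw [map_mul, map_inv, h1]
        group
      by_contra hne
      have hw1 : ((a * b⁻¹ : P) : G) ≠ 1 := by
        intro h0
        apply hne
        have h3 : a * b⁻¹ = 1 := Subtype.ext h0
        exact mul_inv_eq_one.mp h3
      have h3 : (g : G)⁻¹ * ((a * b⁻¹ : P) : G) * g = ((a * b⁻¹ : P) : G) :=
        congrArg Subtype.val h2
      exact hg (hstab g g.2 _ (a * b⁻¹).2 hw1 h3)
    have hsurj := Finite.surjective_of_injective hinj
    apply MonoidHom.ext
    intro y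
    obtain ⟨y', hy'⟩ := hsurj y
    have hy'' : y'⁻¹ * conjP P g y' = y := hy'
    have h1 : μ (conjP P g y') = μ y' := congrArg (fun ν : P →* ℂˣ => ν y') h
    rw [← hy'', map_mul, map_inv, h1, inv_mul_cancel]
    rfl
  · intro hg
    apply MonoidHom.ext
    intro y
    show μ (conjP P g y) = μ y
    have h1 : conjP P g y = (⟨(g : G), hg⟩ : P)⁻¹ * y * ⟨(g : G), hg⟩ := Subtype.ext rfl
    rw [h1, map_mul, map_mul, map_inv, mul_comm, mul_inv_cancel_left]

theorem card_smul_eq_ab {μ : P →* ℂˣ} (hμ : μ ≠ 1) (g₀ : normalizer (P : Set G)) :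
    Nat.card {g : normalizer (P : Set G) // g • μ = g₀ • μ} = Nat.card P := by
  apply Nat.card_congr
  exact
    { toFun := fun g => ⟨((g₀⁻¹ * g.1 : normalizer (P : Set G)) : G), by
        rw [← smul_eq_self_iff_ab P hcomm hstab hμ, mul_smul, g.2, inv_smul_smul]⟩
      invFun := fun y => ⟨g₀ * ⟨(y : G), le_normalizer y.2⟩, by
        rw [mul_smul]
        congr 1
        exact (smul_eq_self_iff_ab P hcomm hstab hμ _).mpr y.2⟩
      left_inv := fun g => by
        apply Subtype.ext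
        apply Subtype.ext
        simp
      right_inv := fun y => by
        apply Subtype.ext
        simp }

theorem cnt_smul_ab {μ : P →* ℂˣ} (hμ : μ ≠ 1) (g₀ : normalizer (P : Set G)) :
    cnt P (g₀ • μ) μ = Nat.card P :=
  card_smul_eq_ab P hcomm hstab hμ g₀

theorem cnt_self_ab {μ : P →* ℂˣ} (hμ : μ ≠ 1) : cnt P μ μ = Nat.card P := by
  have h := cnt_smul_ab P hcomm hstab hμ 1
  rwa [one_smul] at h

theorem card_orbit_ab {e : ℕ}
    (hN : Nat.card (normalizer (P : Set G)) = Nat.card P * e) {μ : P →* ℂˣ} (hμ : μ ≠ 1) :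
    Nat.card (orbit (normalizer (P : Set G)) μ) = e := by
  have h1 := index_stabilizer (normalizer (P : Set G)) μ
  rw [← Nat.card_coe_set_eq] at h1
  have h2 := (stabilizer (normalizer (P : Set G)) μ).card_mul_index
  have h3 : Nat.card (stabilizer (normalizer (P : Set G)) μ) = Nat.card P := by
    have h4 := card_smul_eq_ab P hcomm hstab hμ 1
    rw [← h4]
    apply Nat.card_congr
    apply Equiv.subtypeEquivRight
    intro g
    rw [mem_stabilizer_iff, one_smul]
  rw [h3, h1, hN] at h2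
  exact Nat.eq_of_mul_eq_mul_left Nat.card_pos h2

/-- Orbit representatives for the nontrivial linear characters of `P`. -/
theorem exists_reps_ab {e : ℕ}
    (hN : Nat.card (normalizer (P : Set G)) = Nat.card P * e) :
    ∃ (n : ℕ) (r : Fin n → (P →* ℂˣ)), n * e + 1 = Nat.card P ∧ (∀ i, r i ≠ 1) ∧
      (∀ i j, r i ∈ orbit (normalizer (P : Set G)) (r j) → i = j) ∧
      ∀ μ : P →* ℂˣ, μ ≠ 1 → ∃ i, μ ∈ orbit (normalizer (P : Set G)) (r i) := by
  classical
  haveI : Finite (P →* ℂˣ) := finite_hom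
  haveI : Fintype (orbitRel.Quotient (normalizer (P : Set G)) (P →* ℂˣ)) := Fintype.ofFinite _
  set ω₀ : orbitRel.Quotient (normalizer (P : Set G)) (P →* ℂˣ) := Quotient.mk'' 1 with hω₀
  have hout : ∀ ω : orbitRel.Quotient (normalizer (P : Set G)) (P →* ℂˣ),
      (Quotient.mk'' (Quotient.out ω) : orbitRel.Quotient (normalizer (P : Set G)) (P →* ℂˣ))
        = ω := fun ω => Quotient.out_eq' ω
  have hone : ∀ μ : P →* ℂˣ,
      (Quotient.mk'' μ : orbitRel.Quotient (normalizer (P : Set G)) (P →* ℂˣ)) = ω₀ → μ = 1 := by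
    intro μ h
    have h1 : μ ∈ orbit (normalizer (P : Set G)) (1 : P →* ℂˣ) :=
      (orbitRel_apply).mp (Quotient.exact' h)
    obtain ⟨g, hg⟩ := h1
    rw [← hg]
    exact smul_one_hom P g
  refine ⟨(Finset.univ.erase ω₀).card,
    fun i => Quotient.out ((Finset.univ.erase ω₀).equivFin.symm i).1, ?_, ?_, ?_, ?_⟩
  · have hcard := card_hom hcomm
    rw [Nat.card_congr (selfEquivSigmaOrbits (normalizer (P : Set G)) (P →* ℂˣ)),
      Nat.card_sigma, ← Finset.add_sum_erase Finset.univ _ (Finset.mem_univ ω₀)] at hcard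
    have h1 : Nat.card (orbit (normalizer (P : Set G)) (Quotient.out ω₀)) = 1 := by
      have h2 : Quotient.out ω₀ = 1 := hone _ (hout ω₀)
      rw [h2]
      have horb : orbit (normalizer (P : Set G)) (1 : P →* ℂˣ) = {1} := by
        ext μ
        simp only [mem_orbit_iff, Set.mem_singleton_iff]
        constructor
        · rintro ⟨g, rfl⟩
          exact smul_one_hom P g
        · rintro rfl
          exact ⟨1, one_smul _ _⟩
      rw [horb]
      simp
    have h2 : ∀ ω ∈ Finset.univ.erase ω₀,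
        Nat.card (orbit (normalizer (P : Set G)) (Quotient.out ω)) = e := by
      intro ω hω
      apply card_orbit_ab P hcomm hstab hN
      intro h
      apply (Finset.mem_erase.mp hω).1
      rw [← hout ω, h]
    rw [h1, Finset.sum_congr rfl h2, Finset.sum_const, smul_eq_mul] at hcard
    omega
  · intro i h
    have h' : Quotient.out ((Finset.univ.erase ω₀).equivFin.symm i).1 = 1 := h
    have hmem := ((Finset.univ.erase ω₀).equivFin.symm i).2
    apply (Finset.mem_erase.mp hmem).1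
    rw [← hout ((Finset.univ.erase ω₀).equivFin.symm i).1, h']
  · intro i j hij
    have h1 : (Quotient.mk'' (Quotient.out ((Finset.univ.erase ω₀).equivFin.symm i).1) :
        orbitRel.Quotient (normalizer (P : Set G)) (P →* ℂˣ))
        = Quotient.mk'' (Quotient.out ((Finset.univ.erase ω₀).equivFin.symm j).1) :=
      Quotient.sound' ((orbitRel_apply).mpr hij)
    rw [hout, hout] at h1
    exact (Finset.univ.erase ω₀).equivFin.symm.injective (Subtype.ext h1)
  · intro μ hμ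
    have hmem : (Quotient.mk'' μ : orbitRel.Quotient (normalizer (P : Set G)) (P →* ℂˣ))
        ∈ Finset.univ.erase ω₀ :=
      Finset.mem_erase.mpr ⟨fun h => hμ (hone μ h), Finset.mem_univ _⟩
    refine ⟨(Finset.univ.erase ω₀).equivFin ⟨_, hmem⟩, ?_⟩
    simp only [Equiv.symm_apply_apply]
    apply (orbitRel_apply).mp
    apply Quotient.exact'
    exact (hout _).symm

end orbits

/-- Exceptional characters for an abelian TI-subgroup `P` of order `c` whose normalizer has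
order `c * e` and acts semiregularly on the nonidentity elements of `P`. -/
theorem exceptional_ab {G : Type u} [Group G] [Fintype G] [Fintype (IrrCharacter G)]
    (P : Subgroup G) {c e : ℕ} (hP : Nat.card P = c)
    (hcomm : ∀ a b : P, a * b = b * a)
    (hTI : ∀ g y : G, y ∈ P → y ≠ 1 → g⁻¹ * y * g ∈ P → g ∈ normalizer (P : Set G))
    (hstab : ∀ g : G, g ∈ normalizer (P : Set G) → ∀ y : G, y ∈ P → y ≠ 1 →
      g⁻¹ * y * g = y → g ∈ P)
    (hN : Nat.card (normalizer (P : Set G)) = c * e)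
    (he : 2 * e + 1 ≤ c) :
    ∃ (n : ℕ) (ε b : ℤ) (r : Fin n → (P →* ℂˣ)) (θ : Fin n → IrrCharacter G),
      n * e + 1 = c ∧ (ε = 1 ∨ ε = -1) ∧ Function.Injective θ ∧
      (∀ i, θ i ≠ trivIrr G) ∧
      (n : ℤ) * b ^ 2 + 1 ≤ (e : ℤ) + 2 * ε * b ∧
      (∀ ψ : IrrCharacter G, (∀ i, θ i ≠ ψ) → ∀ y y' : G, y ∈ P → y ≠ 1 → y' ∈ P → y' ≠ 1 →
        (ψ : G → ℂ) y = (ψ : G → ℂ) y') ∧
      (∀ i j, (θ i : G → ℂ) 1 = (θ j : G → ℂ) 1) ∧
      (∀ i, ∀ y : G, y ∈ P → y ≠ 1 →
        (θ i : G → ℂ) y = (b : ℂ) + (ε : ℂ) * indFun P (cf (r i)) y) := by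
  classical
  haveI : Fintype P := Fintype.ofFinite _
  haveI : Fintype (normalizer (P : Set G)) := Fintype.ofFinite _
  haveI : Finite (P →* ℂˣ) := finite_hom
  haveI : Fintype (P →* ℂˣ) := Fintype.ofFinite _
  subst hP
  have hc0 : 0 < Nat.card P := Nat.card_pos
  have hpz : ((Nat.card P : ℕ) : ℤ) ≠ 0 := by exact_mod_cast hc0.ne'
  have hp0 : ((Nat.card P : ℕ) : ℂ) ≠ 0 := Nat.cast_ne_zero.mpr hc0.ne'
  obtain ⟨n, r, hn, hr1, hrinj, hrsurj⟩ := exists_reps_ab P hcomm hstab hN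
  have he0 : 0 < e := by
    rcases Nat.eq_zero_or_pos e with h | h
    · subst h
      have h1 : 0 < Nat.card (normalizer (P : Set G)) := Nat.card_pos
      rw [hN, mul_zero] at h1
      exact absurd h1 (lt_irrefl 0)
    · exact h
  have hn2 : 2 ≤ n := Nat.le_of_mul_le_mul_right (by omega : 2 * e ≤ n * e) he0
  -- multiplicities of the induced characters
  have hchar : ∀ μ : P →* ℂˣ, IsCharacter G (indFun P (cf μ)) := fun μ =>
    Cfsg.Agent.Lib.CT.IndChar.isCharacter_indFun P (cf μ) (cf_isChar μ)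
  choose m hm hexp using fun μ : P →* ℂˣ => Cfsg.Agent.Lib.CT.NormOne.exists_mult_sum (hchar μ)
  choose dg hdpos hd using fun ψ : IrrCharacter G => irr_exists_apply_one_pos ψ.2
  -- the Gram matrix in integers
  have hG : ∀ α β μ ν : P →* ℂˣ,
      ((Nat.card P : ℕ) : ℤ) * ∑ ψ : IrrCharacter G,
          ((m α ψ : ℤ) - (m β ψ : ℤ)) * ((m μ ψ : ℤ) - (m ν ψ : ℤ))
        = (cnt P α μ : ℤ) - (cnt P α ν : ℤ) - (cnt P β μ : ℤ) + (cnt P β ν : ℤ) := by
    intro α β μ ν
    have h1 := gram P hTI α β μ ν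
    have hL : classInner (indFun P (cf α - cf β)) (indFun P (cf μ - cf ν))
        = ∑ ψ : IrrCharacter G,
            ((m α ψ : ℂ) - (m β ψ : ℂ)) * ((m μ ψ : ℂ) - (m ν ψ : ℂ)) := by
      have e2 : indFun P (cf μ - cf ν)
          = ∑ ψ : IrrCharacter G, ((m μ ψ : ℂ) - (m ν ψ : ℂ)) • (ψ : G → ℂ) := by
        rw [indFun_sub, hexp μ, hexp ν, ← Finset.sum_sub_distrib]
        refine Finset.sum_congr rfl (fun ψ _ => ?_)
        rw [sub_smul]
      rw [e2, Cfsg.Agent.S0170.inner_expand]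
      refine Finset.sum_congr rfl (fun ψ _ => ?_)
      rw [indFun_sub, classInner_sub_left, hm α ψ, hm β ψ]
      simp
    rw [hL] at h1
    have h2 : ((Nat.card P : ℕ) : ℂ) * ∑ ψ : IrrCharacter G,
          ((m α ψ : ℂ) - (m β ψ : ℂ)) * ((m μ ψ : ℂ) - (m ν ψ : ℂ))
        = (cnt P α μ : ℂ) - (cnt P α ν : ℂ) - (cnt P β μ : ℂ) + (cnt P β ν : ℂ) := by
      rw [h1]
      field_simp
    exact_mod_cast h2
  have hN' : cnt P (1 : P →* ℂˣ) 1 = Nat.card P * e := by rw [cnt_one_one, hN]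
  have hc1r : ∀ i, cnt P (1 : P →* ℂˣ) (r i) = 0 := by
    intro i
    apply cnt_eq_zero
    rintro ⟨g, hg⟩
    exact smul_ne_one P g (hr1 i) hg
  have hcr1 : ∀ i, cnt P (r i) (1 : P →* ℂˣ) = 0 := by
    intro i
    apply cnt_eq_zero
    rintro ⟨g, hg⟩
    have hg' : g • (1 : P →* ℂˣ) = r i := hg
    rw [smul_one_hom] at hg'
    exact hr1 i hg'.symm
  have hcrr : ∀ i j, cnt P (r i) (r j) = if i = j then Nat.card P else 0 := by
    intro i j
    by_cases hij : i = j
    · rw [if_pos hij, hij]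
      exact cnt_self_ab P hcomm hstab (hr1 j)
    · rw [if_neg hij]
      apply cnt_eq_zero
      intro h
      exact hij (hrinj i j h)
  have hA : ∀ i j k l : Fin n, ∑ ψ : IrrCharacter G,
      ((m (r i) ψ : ℤ) - (m (r j) ψ : ℤ)) * ((m (r k) ψ : ℤ) - (m (r l) ψ : ℤ))
      = (if i = k then (1 : ℤ) else 0) - (if i = l then 1 else 0) - (if j = k then 1 else 0)
        + (if j = l then 1 else 0) := by
    intro i j k l
    have h := hG (r i) (r j) (r k) (r l)
    rw [hcrr, hcrr, hcrr, hcrr] at h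
    apply mul_left_cancel₀ hpz
    rw [h]
    split_ifs <;> push_cast <;> ring
  have hB : ∀ α β : P →* ℂˣ,
      ∑ ψ : IrrCharacter G, ((m α ψ : ℤ) - (m β ψ : ℤ)) * (dg ψ : ℤ) = 0 := by
    intro α β
    have h1 : (indFun P (cf α) - indFun P (cf β)) 1 = 0 := by
      rw [Pi.sub_apply, indFun_one, indFun_one, cf_apply_one, cf_apply_one, sub_self]
    have h2 : (indFun P (cf α) - indFun P (cf β)) 1
        = ∑ ψ : IrrCharacter G, ((m α ψ : ℂ) - (m β ψ : ℂ)) * (dg ψ : ℂ) := by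
      rw [hexp α, hexp β, ← Finset.sum_sub_distrib, Finset.sum_apply]
      refine Finset.sum_congr rfl (fun ψ _ => ?_)
      rw [← sub_smul, Pi.smul_apply, hd ψ, smul_eq_mul]
    rw [h2] at h1
    exact_mod_cast h1
  obtain ⟨ε, hε, θ, hθinj, hθ⟩ := Cfsg.Agent.S0170.exists_theta hn2
    (fun i ψ => (m (r i) ψ : ℤ)) (fun ψ => (dg ψ : ℤ)) (fun ψ => by exact_mod_cast hdpos ψ)
    hA (fun i j => hB (r i) (r j))
  have hε2 : ε * ε = 1 := by rcases hε with h | h <;> rw [h] <;> norm_num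
  have hε0 : ε ≠ 0 := by rcases hε with h | h <;> rw [h] <;> norm_num
  have hεc : (ε : ℂ) ≠ 0 := by exact_mod_cast hε0
  have hn0 : 0 < n := by omega
  obtain ⟨i₀, hi₀⟩ : ∃ i₀ : Fin n, i₀ = ⟨0, hn0⟩ := ⟨_, rfl⟩
  obtain ⟨a, ha⟩ : ∃ a : IrrCharacter G → ℤ, ∀ ψ,
      a ψ = (m (r i₀) ψ : ℤ) - ε * (if ψ = θ i₀ then 1 else 0) := ⟨_, fun _ => rfl⟩
  have hma : ∀ i ψ, (m (r i) ψ : ℤ) = a ψ + ε * (if ψ = θ i then 1 else 0) := by
    intro i ψ
    have h : (m (r i) ψ : ℤ) - (m (r i₀) ψ : ℤ)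
        = ε * ((if ψ = θ i then (1 : ℤ) else 0) - (if ψ = θ i₀ then 1 else 0)) := hθ i i₀ ψ
    rw [ha ψ]
    linear_combination h
  -- multiplicities are constant on orbits
  have hmorb : ∀ μ : P →* ℂˣ, μ ≠ 1 → ∀ i, μ ∈ orbit (normalizer (P : Set G)) (r i) →
      ∀ ψ, m μ ψ = m (r i) ψ := by
    intro μ hμ i hi
    obtain ⟨g₀, hg₀⟩ := hi
    have hg₀' : g₀ • r i = μ := hg₀
    have h := hG μ (r i) μ (r i)
    have c1 : cnt P μ μ = Nat.card P := cnt_self_ab P hcomm hstab hμ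
    have c2 : cnt P μ (r i) = Nat.card P := by
      rw [← hg₀']
      exact cnt_smul_ab P hcomm hstab (hr1 i) g₀
    have c3 : cnt P (r i) μ = Nat.card P := by
      have h3 : r i = g₀⁻¹ • μ := by rw [← hg₀', inv_smul_smul]
      rw [h3]
      exact cnt_smul_ab P hcomm hstab hμ g₀⁻¹
    have c4 : cnt P (r i) (r i) = Nat.card P := cnt_self_ab P hcomm hstab (hr1 i)
    rw [c1, c2, c3, c4] at h
    have hsum : ∑ ψ : IrrCharacter G,
        ((m μ ψ : ℤ) - (m (r i) ψ : ℤ)) * ((m μ ψ : ℤ) - (m (r i) ψ : ℤ)) = 0 := by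
      apply mul_left_cancel₀ hpz
      rw [h]
      ring
    intro ψ
    have h0 := (Finset.sum_eq_zero_iff_of_nonneg (fun ψ _ => mul_self_nonneg _)).mp hsum ψ
      (Finset.mem_univ ψ)
    have h1 : (m μ ψ : ℤ) - (m (r i) ψ : ℤ) = 0 := mul_self_eq_zero.mp h0
    exact_mod_cast sub_eq_zero.mp h1
  obtain ⟨M₀, hM₀⟩ : ∃ M₀ : IrrCharacter G → ℤ, ∀ ψ, M₀ ψ = (m 1 ψ : ℤ) - a ψ :=
    ⟨_, fun _ => rfl⟩
  have hM1 : ∀ i ψ, (m 1 ψ : ℤ) - (m (r i) ψ : ℤ)
      = M₀ ψ - ε * (if ψ = θ i then 1 else 0) := by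
    intro i ψ
    rw [hM₀ ψ, hma i ψ]
    ring
  have hC1 : ∀ i, ∑ ψ : IrrCharacter G, (M₀ ψ - ε * (if ψ = θ i then 1 else 0)) ^ 2
      = (e : ℤ) + 1 := by
    intro i
    have h := hG 1 (r i) 1 (r i)
    rw [hN', hc1r, hcr1, cnt_self_ab P hcomm hstab (hr1 i)] at h
    apply mul_left_cancel₀ hpz
    have h1 : ∑ ψ : IrrCharacter G, (M₀ ψ - ε * (if ψ = θ i then 1 else 0)) ^ 2
        = ∑ ψ : IrrCharacter G,
          ((m 1 ψ : ℤ) - (m (r i) ψ : ℤ)) * ((m 1 ψ : ℤ) - (m (r i) ψ : ℤ)) := by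
      apply Finset.sum_congr rfl
      intro ψ _
      rw [hM1 i ψ]
      ring
    rw [h1, h]
    push_cast
    ring
  have hsumδ : ∀ i, ∑ ψ : IrrCharacter G, M₀ ψ * (if ψ = θ i then (1 : ℤ) else 0)
      = M₀ (θ i) := by
    intro i
    simp
  have hsumδ2 : ∀ i, ∑ ψ : IrrCharacter G, (if ψ = θ i then (1 : ℤ) else 0) ^ 2 = 1 := by
    intro i
    simp
  have hC2 : ∀ i, ∑ ψ : IrrCharacter G, M₀ ψ ^ 2 - 2 * ε * M₀ (θ i) = e := by
    intro i
    have h := hC1 i
    have hexpand : ∑ ψ : IrrCharacter G, (M₀ ψ - ε * (if ψ = θ i then 1 else 0)) ^ 2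
        = ∑ ψ : IrrCharacter G, M₀ ψ ^ 2
          - 2 * ε * ∑ ψ : IrrCharacter G, M₀ ψ * (if ψ = θ i then (1 : ℤ) else 0)
          + ε * ε * ∑ ψ : IrrCharacter G, (if ψ = θ i then (1 : ℤ) else 0) ^ 2 := by
      rw [Finset.mul_sum, Finset.mul_sum, ← Finset.sum_sub_distrib, ← Finset.sum_add_distrib]
      apply Finset.sum_congr rfl
      intro ψ _
      ring
    rw [hexpand, hsumδ, hsumδ2, hε2] at h
    linarith
  have hb : ∀ i, M₀ (θ i) = M₀ (θ i₀) := by
    intro i
    have h3 : ε * (M₀ (θ i) - M₀ (θ i₀)) = 0 := by linarith [hC2 i, hC2 i₀]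
    rcases mul_eq_zero.mp h3 with h | h
    · exact absurd h hε0
    · linarith
  -- the trivial character
  have hmT : ∀ μ : P →* ℂˣ, (m μ (trivIrr G) : ℂ) = if μ = 1 then 1 else 0 := by
    intro μ
    rw [← hm μ (trivIrr G)]
    have hcls : IsClassFunction G ((trivIrr G : IrrCharacter G) : G → ℂ) :=
      irr_isClassFunction _
    rw [frobenius_reciprocity P (cf μ) _ hcls]
    have e1 : (fun h : P => ((trivIrr G : IrrCharacter G) : G → ℂ) h)
        = cf (1 : P →* ℂˣ) := by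
      funext h
      rw [trivIrr_apply, cf_one_apply]
    rw [e1, classInner_cf]
  have hmT1 : (m 1 (trivIrr G) : ℤ) = 1 := by
    have h := hmT 1
    rw [if_pos rfl] at h
    exact_mod_cast h
  have hmTr : ∀ i, (m (r i) (trivIrr G) : ℤ) = 0 := by
    intro i
    have h := hmT (r i)
    rw [if_neg (hr1 i)] at h
    exact_mod_cast h
  have hθT : ∀ i, θ i ≠ trivIrr G := by
    intro i hi
    obtain ⟨j, hj⟩ : ∃ j : Fin n, j ≠ i := by
      by_cases h : i = ⟨0, hn0⟩
      · refine ⟨⟨1, by omega⟩, ?_⟩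
        rw [h]
        intro h'
        have := congrArg Fin.val h'
        simp at this
      · exact ⟨⟨0, hn0⟩, fun h' => h h'.symm⟩
    have h1 := hma i (trivIrr G)
    have h2 := hma j (trivIrr G)
    rw [hmTr, if_pos hi.symm] at h1
    rw [hmTr, if_neg (fun h => hj (hθinj (h.symm.trans hi.symm)))] at h2
    have h3 : ε = 0 := by linarith
    exact hε0 h3
  have haT : a (trivIrr G) = 0 := by
    have h1 := hma i₀ (trivIrr G)
    rw [hmTr, if_neg (fun h => hθT i₀ h.symm)] at h1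
    linarith
  have hMT : M₀ (trivIrr G) = 1 := by
    rw [hM₀, hmT1, haT]
    ring
  -- differences of the induced characters as functions
  have hfun : ∀ i j, indFun P (cf (r i)) - indFun P (cf (r j))
      = (ε : ℂ) • ((θ i : G → ℂ) - (θ j : G → ℂ)) := by
    intro i j
    rw [hexp (r i), hexp (r j), ← Finset.sum_sub_distrib]
    have h3 : ∀ ψ : IrrCharacter G,
        ((m (r i) ψ : ℂ) • (ψ : G → ℂ) - (m (r j) ψ : ℂ) • (ψ : G → ℂ))
        = ((ε : ℂ) * ((if ψ = θ i then (1 : ℂ) else 0) - (if ψ = θ j then 1 else 0)))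
          • (ψ : G → ℂ) := by
      intro ψ
      rw [← sub_smul]
      congr 1
      have h4 : (m (r i) ψ : ℤ) - (m (r j) ψ : ℤ)
          = ε * ((if ψ = θ i then (1 : ℤ) else 0) - (if ψ = θ j then 1 else 0)) := hθ i j ψ
      exact_mod_cast h4
    simp only [h3]
    simp only [mul_smul, sub_smul, ite_smul, one_smul, zero_smul, smul_sub,
      Finset.sum_sub_distrib, ← Finset.smul_sum, Finset.sum_ite_eq', Finset.mem_univ, if_true]
  have hθone : ∀ i j, (θ i : G → ℂ) 1 = (θ j : G → ℂ) 1 := by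
    intro i j
    have h := congrFun (hfun i j) 1
    rw [Pi.sub_apply, indFun_one, indFun_one, cf_apply_one, cf_apply_one, sub_self,
      Pi.smul_apply, Pi.sub_apply, smul_eq_mul] at h
    exact sub_eq_zero.mp ((mul_eq_zero.mp h.symm).resolve_left hεc)
  -- restriction to `P`
  have hrestr : ∀ (ψ : IrrCharacter G) (y : P),
      (ψ : G → ℂ) y = ∑ μ : P →* ℂˣ, (m μ ψ : ℂ) * cf μ y := by
    intro ψ y
    refine (expand hcomm (fun h : P => (ψ : G → ℂ) h) y).trans ?_
    apply Finset.sum_congr rfl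
    intro μ _
    congr 1
    rw [Cfsg.Agent.Lib.CT.Clifford.classInner_conj_symm,
      ← frobenius_reciprocity P (cf μ) _ (irr_isClassFunction ψ), hm μ ψ, Complex.conj_natCast]
  have hnonexc : ∀ ψ : IrrCharacter G, (∀ i, θ i ≠ ψ) → ∀ μ : P →* ℂˣ, μ ≠ 1 →
      (m μ ψ : ℤ) = a ψ := by
    intro ψ hψ μ hμ
    obtain ⟨i, hi⟩ := hrsurj μ hμ
    rw [hmorb μ hμ i hi ψ, hma i ψ, if_neg (fun h => hψ i h.symm)]
    ring
  have hval : ∀ ψ : IrrCharacter G, (∀ i, θ i ≠ ψ) → ∀ y : P,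
      (ψ : G → ℂ) y = (a ψ : ℂ) * ∑ μ : P →* ℂˣ, cf μ y + (M₀ ψ : ℂ) := by
    intro ψ hψ y
    rw [hrestr ψ y, Finset.mul_sum]
    have h1 : ∀ μ : P →* ℂˣ, (m μ ψ : ℂ) * cf μ y
        = (a ψ : ℂ) * cf μ y + (if μ = 1 then (M₀ ψ : ℂ) else 0) := by
      intro μ
      by_cases hμ : μ = 1
      · rw [if_pos hμ, hμ, cf_one_apply]
        have h2 : (M₀ ψ : ℂ) = (m 1 ψ : ℂ) - (a ψ : ℂ) := by
          rw [hM₀]
          push_cast
          ring
        rw [h2]
        ring
      · rw [if_neg hμ]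
        have h2 : (m μ ψ : ℂ) = (a ψ : ℂ) := by exact_mod_cast hnonexc ψ hψ μ hμ
        rw [h2]
        ring
    rw [Finset.sum_congr rfl (fun μ _ => h1 μ), Finset.sum_add_distrib,
      Finset.sum_ite_eq' Finset.univ (1 : P →* ℂˣ) (fun _ => (M₀ ψ : ℂ)),
      if_pos (Finset.mem_univ _)]
  have hvalP : ∀ ψ : IrrCharacter G, (∀ i, θ i ≠ ψ) → ∀ y : G, y ∈ P → y ≠ 1 →
      (ψ : G → ℂ) y = (M₀ ψ : ℂ) := by
    intro ψ hψ y hy hy1
    have h := hval ψ hψ ⟨y, hy⟩
    rw [sum_cf_eq_zero hcomm (⟨y, hy⟩ : P) (fun h' => hy1 (congrArg Subtype.val h')),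
      mul_zero, zero_add] at h
    exact h
  -- the exceptional characters on `P`
  have hexcm : ∀ j (μ : P →* ℂˣ), μ ≠ 1 → (m μ (θ j) : ℤ)
      = a (θ j) + ε * (if μ ∈ orbit (normalizer (P : Set G)) (r j) then 1 else 0) := by
    intro j μ hμ
    obtain ⟨i, hi⟩ := hrsurj μ hμ
    rw [hmorb μ hμ i hi (θ j), hma i (θ j)]
    by_cases hij : i = j
    · subst hij
      rw [if_pos rfl, if_pos hi]
    · rw [if_neg (fun h => hij (hθinj h).symm), if_neg]
      intro hj
      apply hij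
      apply hrinj i j
      have h1 : orbit (normalizer (P : Set G)) μ = orbit (normalizer (P : Set G)) (r i) :=
        orbit_eq_iff.mpr hi
      have h2 : orbit (normalizer (P : Set G)) μ = orbit (normalizer (P : Set G)) (r j) :=
        orbit_eq_iff.mpr hj
      rw [← orbit_eq_iff, ← h1, h2]
  have horbsum : ∀ j (y : P), y ≠ 1 → indFun P (cf (r j)) (y : G)
      = ∑ μ : P →* ℂˣ,
        (if μ ∈ orbit (normalizer (P : Set G)) (r j) then cf μ y else 0) := by
    intro j y hy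
    rw [indFun_apply_of_mem P hTI (cf (r j)) y hy]
    have h1 : ∑ g : normalizer (P : Set G), cf (r j) (conjP P g y)
        = ∑ μ : P →* ℂˣ,
          ∑ g ∈ Finset.univ.filter (fun g : normalizer (P : Set G) => g • r j = μ),
            cf (r j) (conjP P g y) :=
      (Finset.sum_fiberwise Finset.univ (fun g : normalizer (P : Set G) => g • r j) _).symm
    rw [h1, Finset.mul_sum]
    apply Finset.sum_congr rfl
    intro μ _
    have h2 : ∑ g ∈ Finset.univ.filter (fun g : normalizer (P : Set G) => g • r j = μ),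
          cf (r j) (conjP P g y)
        = (cnt P μ (r j) : ℂ) * cf μ y := by
      rw [Finset.sum_congr rfl (g := fun _ => cf μ y), Finset.sum_const, nsmul_eq_mul]
      · congr 2
        rw [cnt, Nat.card_eq_fintype_card, Fintype.card_subtype]
      · intro g hg
        rw [← (Finset.mem_filter.mp hg).2]
        rfl
    rw [h2]
    by_cases hμ : μ ∈ orbit (normalizer (P : Set G)) (r j)
    · rw [if_pos hμ]
      obtain ⟨g₀, hg₀⟩ := hμ
      have hg₀' : g₀ • r j = μ := hg₀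
      rw [← hg₀', cnt_smul_ab P hcomm hstab (hr1 j) g₀]
      field_simp
    · rw [if_neg hμ, cnt_eq_zero P μ (r j) hμ]
      simp
  have hθval : ∀ j (y : P), y ≠ 1 → (θ j : G → ℂ) y
      = (M₀ (θ j) : ℂ) + (ε : ℂ) * indFun P (cf (r j)) (y : G) := by
    intro j y hy
    rw [hrestr (θ j) y, horbsum j y hy, Finset.mul_sum]
    have h1 : ∀ μ : P →* ℂˣ, (m μ (θ j) : ℂ) * cf μ y
        = (a (θ j) : ℂ) * cf μ y + (if μ = 1 then (M₀ (θ j) : ℂ) else 0)
          + (ε : ℂ) * (if μ ∈ orbit (normalizer (P : Set G)) (r j) then cf μ y else 0) := by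
      intro μ
      by_cases hμ : μ = 1
      · have hnot : μ ∉ orbit (normalizer (P : Set G)) (r j) := by
          rw [hμ]
          rintro ⟨g, hg⟩
          exact smul_ne_one P g (hr1 j) hg
        rw [if_pos hμ, if_neg hnot, hμ, cf_one_apply]
        have h2 : (M₀ (θ j) : ℂ) = (m 1 (θ j) : ℂ) - (a (θ j) : ℂ) := by
          rw [hM₀]
          push_cast
          ring
        rw [h2]
        ring
      · rw [if_neg hμ]
        have h2 : (m μ (θ j) : ℂ) = (a (θ j) : ℂ)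
            + (ε : ℂ) * (if μ ∈ orbit (normalizer (P : Set G)) (r j) then 1 else 0) := by
          exact_mod_cast hexcm j μ hμ
        rw [h2]
        split_ifs <;> ring
    rw [Finset.sum_congr rfl (fun μ _ => h1 μ), Finset.sum_add_distrib, Finset.sum_add_distrib,
      ← Finset.mul_sum, sum_cf_eq_zero hcomm y hy, mul_zero, zero_add,
      Finset.sum_ite_eq' Finset.univ (1 : P →* ℂˣ) (fun _ => (M₀ (θ j) : ℂ)),
      if_pos (Finset.mem_univ _)]
  -- the norm inequality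
  have hineq : (n : ℤ) * M₀ (θ i₀) ^ 2 + 1 ≤ (e : ℤ) + 2 * ε * M₀ (θ i₀) := by
    have h := hC2 i₀
    rw [sum_split θ hθinj] at h
    have h2 : ∑ i : Fin n, M₀ (θ i) ^ 2 = (n : ℤ) * M₀ (θ i₀) ^ 2 := by
      rw [Finset.sum_congr rfl (fun i _ => by rw [hb i]), Finset.sum_const, Finset.card_univ,
        Fintype.card_fin, nsmul_eq_mul]
    rw [h2] at h
    have h3 : (1 : ℤ) ≤ ∑ ψ : IrrCharacter G, (if ∃ i, θ i = ψ then 0 else M₀ ψ ^ 2) := by
      have h4 := Finset.single_le_sum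
        (f := fun ψ : IrrCharacter G => (if ∃ i, θ i = ψ then (0 : ℤ) else M₀ ψ ^ 2))
        (fun ψ _ => by
          show (0 : ℤ) ≤ (if ∃ i, θ i = ψ then (0 : ℤ) else M₀ ψ ^ 2)
          split_ifs
          · exact le_refl 0
          · exact sq_nonneg _)
        (Finset.mem_univ (trivIrr G))
      have h5 : (if ∃ i, θ i = trivIrr G then (0 : ℤ) else M₀ (trivIrr G) ^ 2) = 1 := by
        rw [if_neg (fun ⟨i, hi⟩ => hθT i hi), hMT]
        norm_num
      rw [h5] at h4
      exact h4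
    linarith
  refine ⟨n, ε, M₀ (θ i₀), r, θ, hn, hε, hθinj, hθT, hineq, ?_, hθone, ?_⟩
  · intro ψ hψ y y' hy hy1 hy' hy1'
    rw [hvalP ψ hψ y hy hy1, hvalP ψ hψ y' hy' hy1']
  · intro i y hy hy1
    have h := hθval i ⟨y, hy⟩ (fun h' => hy1 (congrArg Subtype.val h'))
    rw [hb i] at h
    exact h

end Cfsg.Agent.Lib.Helper39.CTExc
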