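import Mathlib
import Cfsg.Agent.Lib.Helper39.CTCount
import Cfsg.Agent.Lib.Helper39.CTExc
import Cfsg.Agent.Lib.CT.ClassMult

/-!
In a finite simple nonabelian CT-group the centralizer of an involution has exponent two
(Suzuki, Brauer-Suzuki-Wall), by exceptional characters and class constants.
-/

set_option autoImplicit false

namespace Cfsg.Agent.Lib.Helper39.CTFinal

open Cfsg Subgroup
open Cfsg.Agent.Lib.CT.FrobRec Cfsg.Agent.Lib.CT.Orth Cfsg.Agent.Lib.CT.Wedderburn
open Cfsg.Agent.Lib.CT.ClassMult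
open Cfsg.Agent.Lib.Helper17.ExcOrb Cfsg.Agent.Lib.Helper17.ExcMain
open Cfsg.Agent.Lib.Helper39.CTGroup Cfsg.Agent.Lib.Helper39.CTCount
open Cfsg.Agent.Lib.Helper39.CTExc
open scoped ComplexConjugate

universe u

variable {G : Type u} [Group G] [Fintype G] [IsSimpleGroup G]

/-- The value at the involution `t` of a linear character of `C = C(t)` induced to `G`. -/
theorem indFun_t_cases (hG : ¬ ∀ a b : G, a * b = b * a) (hCT : CT G) {t : G}
    (ht1 : t ≠ 1) (ht : t ^ 2 = 1) (μ : centralizer ({t} : Set G) →* ℂˣ) :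
    indFun (centralizer ({t} : Set G)) (cf μ) t = -1 ∨
      indFun (centralizer ({t} : Set G)) (cf μ) t = ((Vs t).card : ℂ) - 1 := by
  classical
  obtain ⟨E, hE⟩ : ∃ E : G → ℂ, E = extendByZero (centralizer ({t} : Set G)) (cf μ) :=
    ⟨_, rfl⟩
  have hc0 : ((Nat.card (centralizer ({t} : Set G)) : ℕ) : ℂ) ≠ 0 :=
    Nat.cast_ne_zero.mpr Nat.card_pos.ne'
  have hEout : ∀ u, u ∉ centralizer ({t} : Set G) → E u = 0 := by
    intro u hu
    rw [hE]
    exact extendByZero_apply_of_not_mem _ _ hu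
  have hE1 : E 1 = 1 := by
    rw [hE, extendByZero_apply_of_mem _ _ (one_mem _)]
    exact cf_apply_one μ
  have hmul : ∀ a b : G, a ∈ centralizer ({t} : Set G) → b ∈ centralizer ({t} : Set G) →
      E (a * b) = E a * E b := by
    intro a b ha hb
    rw [hE, extendByZero_apply_of_mem _ _ ha, extendByZero_apply_of_mem _ _ hb,
      extendByZero_apply_of_mem _ _ (mul_mem ha hb)]
    have h1 : (⟨a * b, mul_mem ha hb⟩ : centralizer ({t} : Set G)) = ⟨a, ha⟩ * ⟨b, hb⟩ := rfl
    rw [h1, cf_apply, cf_apply, cf_apply, map_mul, Units.val_mul]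
  have hval : indFun (centralizer ({t} : Set G)) (cf μ) t = ∑ u ∈ Vs t, E u - 1 := by
    rw [indFun_apply]
    have hre : ∑ x : G, extendByZero (centralizer ({t} : Set G)) (cf μ) (x⁻¹ * t * x)
        = ∑ x : G, E (x * t * x⁻¹) := by
      rw [hE]
      apply Fintype.sum_equiv (Equiv.inv G)
      intro x
      simp
    rw [hre, sum_conj hG hCT ht1 ht E hEout, ← mul_assoc, inv_mul_cancel₀ hc0, one_mul,
      ← Finset.add_sum_erase _ _ (one_mem_Vs t), hE1]
    ring
  rw [hval]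
  by_cases hall : ∀ u ∈ Vs t, E u = 1
  · right
    rw [Finset.sum_congr rfl hall, Finset.sum_const, nsmul_eq_mul, mul_one]
  · left
    push Not at hall
    obtain ⟨v0, hv0, hv0E⟩ := hall
    have hv0v0 : v0 * v0 = 1 := by rw [← sq]; exact (mem_Vs.mp hv0).2
    have hshift : ∑ u ∈ Vs t, E (v0 * u) = ∑ u ∈ Vs t, E u := by
      apply Finset.sum_equiv (Equiv.mulLeft v0)
      · intro u
        constructor
        · intro hu
          exact mul_mem_Vs hCT ht1 hv0 hu
        · intro hu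
          have h1 : u = v0 * (v0 * u) := by rw [← mul_assoc, hv0v0, one_mul]
          rw [h1]
          exact mul_mem_Vs hCT ht1 hv0 hu
      · intro u _
        rfl
    have hfac : ∑ u ∈ Vs t, E (v0 * u) = E v0 * ∑ u ∈ Vs t, E u := by
      rw [Finset.mul_sum]
      apply Finset.sum_congr rfl
      intro u hu
      exact hmul v0 u (mem_Vs.mp hv0).1 (mem_Vs.mp hu).1
    have hzero : (E v0 - 1) * ∑ u ∈ Vs t, E u = 0 := by
      rw [sub_mul, one_mul, ← hfac, hshift, sub_self]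
    rcases mul_eq_zero.mp hzero with h | h
    · exact absurd (sub_eq_zero.mp h) hv0E
    · rw [h]
      ring

/-- Every element of the centralizer of an involution has square one. -/
theorem sq_eq_one_of_mem_cent (hG : ¬ ∀ a b : G, a * b = b * a) (hCT : CT G) {t : G}
    (ht1 : t ≠ 1) (ht : t ^ 2 = 1) {x0 : G} (hx0 : x0 ∈ centralizer ({t} : Set G)) :
    x0 ^ 2 = 1 := by
  classical
  by_contra hx02
  haveI := finite_irrCharacter G
  haveI : Fintype (IrrCharacter G) := Fintype.ofFinite _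
  have hx01 : x0 ≠ 1 := fun h => hx02 (by rw [h, one_pow])
  -- group-theoretic data
  have hcommC : ∀ a b : centralizer ({t} : Set G), a * b = b * a :=
    fun a b => Subtype.ext (cent_comm hCT ht1 a.2 b.2)
  have hTI : ∀ g y : G, y ∈ centralizer ({t} : Set G) → y ≠ 1 →
      g⁻¹ * y * g ∈ centralizer ({t} : Set G) →
      g ∈ normalizer ((centralizer ({t} : Set G) : Subgroup G) : Set G) :=
    fun g y hy hy1 h => ti hCT ht1 g y hy hy1 h
  have hstab : ∀ g : G, g ∈ normalizer ((centralizer ({t} : Set G) : Subgroup G) : Set G) →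
      ∀ y : G, y ∈ centralizer ({t} : Set G) → y ≠ 1 → g⁻¹ * y * g = y →
      g ∈ centralizer ({t} : Set G) := by
    intro g _ y hy hy1 h
    have hCy := cent_eq hCT ht1 hy1 hy
    rw [← hCy, mem_centralizer_singleton_iff]
    calc g * y = g * (g⁻¹ * y * g) := by rw [h]
      _ = y * g := by group
  obtain ⟨c, hc⟩ : ∃ c : ℕ, c = Nat.card (centralizer ({t} : Set G)) := ⟨_, rfl⟩
  obtain ⟨gN, hgN⟩ : ∃ gN : ℕ, gN = Nat.card G := ⟨_, rfl⟩
  obtain ⟨e, he⟩ : ∃ e : ℕ, e = (Vs t).card - 1 := ⟨_, rfl⟩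
  have hVs3 : 3 ≤ (Vs t).card := by
    obtain ⟨u, huC, hu1, hut, hu2⟩ := exists_third hG hCT ht1 ht
    have hsub : ({1, t, u} : Finset G) ⊆ Vs t := by
      intro x hx
      simp only [Finset.mem_insert, Finset.mem_singleton] at hx
      rcases hx with h | h | h
      · rw [h]; exact one_mem_Vs _
      · rw [h]; exact self_mem_Vs ht
      · rw [h]; exact mem_Vs.mpr ⟨huC, hu2⟩
    have hcard : ({1, t, u} : Finset G).card = 3 :=
      Finset.card_eq_three.mpr
        ⟨1, t, u, fun h => ht1 h.symm, fun h => hu1 h.symm, fun h => hut h.symm, rfl⟩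
    rw [← hcard]
    exact Finset.card_le_card hsub
  have hVe : (Vs t).card = e + 1 := by omega
  have he2 : 2 ≤ e := by omega
  have hcardN : Nat.card (normalizer ((centralizer ({t} : Set G) : Subgroup G) : Set G))
      = c * e := by
    rw [hc, he]
    exact card_normalizer hG hCT ht1 ht
  have hsq : (e + 1) ^ 2 ≤ c := by
    rw [hc, ← hVe]
    exact card_Vs_sq_le hG hCT ht1 ht hx0 hx02
  have hcG : c ^ 2 ≤ gN := by
    rw [hc, hgN]
    exact card_sq_le hG hCT ht1
  have he' : 2 * e + 1 ≤ c := by nlinarith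
  obtain ⟨n, ε, b, r, θ, hn, hε, hθinj, hθT, hineq, hnonexc, hθone, hθval⟩ :=
    exceptional_ab (centralizer ({t} : Set G)) hc.symm hcommC hTI hstab hcardN he'
  have hε2 : ε * ε = 1 := by rcases hε with h | h <;> rw [h] <;> norm_num
  have hn2 : e + 2 ≤ n := by
    have h1 : (e + 2) * e ≤ n * e := by nlinarith
    exact Nat.le_of_mul_le_mul_right h1 (by omega)
  -- `b = 0`
  have hb0 : b = 0 := by
    obtain ⟨s, hs⟩ : ∃ s : ℤ, s = ε * b := ⟨_, rfl⟩
    have hs2 : s ^ 2 = b ^ 2 := by rw [hs, mul_pow, sq ε, hε2, one_mul]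
    have hn2' : ((e : ℤ) + 2) ≤ (n : ℤ) := by exact_mod_cast hn2
    have he0' : (0 : ℤ) ≤ (e : ℤ) := Int.natCast_nonneg e
    have h1 : ((e : ℤ) + 2) * s ^ 2 + 1 ≤ (e : ℤ) + 2 * s := by
      have h2 : ((e : ℤ) + 2) * s ^ 2 ≤ (n : ℤ) * s ^ 2 :=
        mul_le_mul_of_nonneg_right hn2' (sq_nonneg s)
      rw [hs2] at h2
      rw [hs2]
      have h3 : 2 * ε * b = 2 * s := by rw [hs]; ring
      linarith
    have hs0 : s = 0 := by
      by_contra hne
      rcases lt_or_gt_of_ne hne with h | h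
      · have h4 : s ≤ -1 := by omega
        have h5 : 1 ≤ s ^ 2 := by nlinarith
        have h6 := mul_le_mul_of_nonneg_left h5 (by linarith : (0 : ℤ) ≤ (e : ℤ) + 2)
        linarith
      · have h4 : 1 ≤ s := by omega
        have h5 : s ≤ s ^ 2 := by nlinarith
        have h6 := mul_le_mul_of_nonneg_left h5 (by linarith : (0 : ℤ) ≤ (e : ℤ) + 2)
        have h7 : (e : ℤ) ≤ (e : ℤ) * s := by nlinarith
        linarith
    rw [hs] at hs0
    rcases mul_eq_zero.mp hs0 with h | h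
    · rcases hε with h' | h' <;> rw [h'] at h <;> norm_num at h
    · exact h
  -- the degree of the exceptional characters
  obtain ⟨i₀, -⟩ : ∃ i₀ : Fin n, True := ⟨⟨0, by omega⟩, trivial⟩
  obtain ⟨dn, hdpos, hd⟩ := irr_exists_apply_one_pos (θ i₀).2
  have hdeg : ∀ i, (θ i : G → ℂ) 1 = (dn : ℂ) := fun i => (hθone i i₀).trans hd
  have hdn0 : (dn : ℂ) ≠ 0 := Nat.cast_ne_zero.mpr hdpos.ne'
  -- values at `t`
  have hτ : ∀ i, (θ i : G → ℂ) t = -(ε : ℂ) ∨ (θ i : G → ℂ) t = (ε : ℂ) * (e : ℂ) := by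
    intro i
    have h := hθval i t (self_mem_cent t) ht1
    rw [hb0, Int.cast_zero, zero_add] at h
    rcases indFun_t_cases hG hCT ht1 ht (r i) with h1 | h1
    · left
      rw [h, h1]
      ring
    · right
      rw [h, h1, hVe]
      push_cast
      ring
  have hεc2 : (ε : ℂ) * (ε : ℂ) = 1 := by exact_mod_cast hε2
  have hτ2 : ∀ i, (θ i : G → ℂ) t * (θ i : G → ℂ) t
      = (ε : ℂ) * ((e : ℂ) - 1) * (θ i : G → ℂ) t + (e : ℂ) := by
    intro i
    rcases hτ i with h | h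
    · rw [h]
      linear_combination (e : ℂ) * hεc2
    · rw [h]
      linear_combination (e : ℂ) * hεc2
  -- the differences of values at `t` and `x0`
  obtain ⟨X, hX⟩ : ∃ X : IrrCharacter G → ℂ,
      ∀ ψ, X ψ = conj ((ψ : G → ℂ) t) - conj ((ψ : G → ℂ) x0) := ⟨_, fun _ => rfl⟩
  have hX0 : ∀ ψ : IrrCharacter G, (∀ i, θ i ≠ ψ) → X ψ = 0 := by
    intro ψ hψ
    rw [hX, hnonexc ψ hψ t x0 (self_mem_cent t) ht1 hx0 hx01, sub_self]
  have hsplit0 : ∀ F : IrrCharacter G → ℂ, (∀ ψ, (∀ i, θ i ≠ ψ) → F ψ = 0) →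
      ∑ ψ, F ψ = ∑ i, F (θ i) := by
    intro F hF
    rw [sum_split θ hθinj F]
    have h0 : ∑ ψ : IrrCharacter G, (if ∃ i, θ i = ψ then 0 else F ψ) = 0 := by
      apply Finset.sum_eq_zero
      intro ψ _
      by_cases hψ : ∃ i, θ i = ψ
      · rw [if_pos hψ]
      · rw [if_neg hψ]
        exact hF ψ (not_exists.mp hψ)
    rw [h0, zero_add]
  have hnc1t : ¬ IsConj (1 : G) t := fun h => ht1 (isConj_one_right.mp h)
  have hnc1x : ¬ IsConj (1 : G) x0 := fun h => hx01 (isConj_one_right.mp h)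
  have hnctx : ¬ IsConj t x0 := by
    intro h
    obtain ⟨c', hc'⟩ := isConj_iff.mp h
    apply hx02
    rw [← hc']
    exact conj_sq ht
  have hS1 : ∑ i, X (θ i) = 0 := by
    have h1 := second_orthogonality_sum_of_not_isConj (1 : G) t hnc1t
    have h2 := second_orthogonality_sum_of_not_isConj (1 : G) x0 hnc1x
    have h3 : ∑ ψ : IrrCharacter G, (ψ : G → ℂ) 1 * X ψ = 0 := by
      have h4 : ∑ ψ : IrrCharacter G, (ψ : G → ℂ) 1 * X ψ
          = ∑ ψ : IrrCharacter G, (ψ : G → ℂ) 1 * conj ((ψ : G → ℂ) t)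
            - ∑ ψ : IrrCharacter G, (ψ : G → ℂ) 1 * conj ((ψ : G → ℂ) x0) := by
        rw [← Finset.sum_sub_distrib]
        apply Finset.sum_congr rfl
        intro ψ _
        rw [hX]
        ring
      rw [h4, h1, h2, sub_self]
    rw [hsplit0 _ (fun ψ hψ => by rw [hX0 ψ hψ, mul_zero])] at h3
    have h4 : ∑ i, (θ i : G → ℂ) 1 * X (θ i) = (dn : ℂ) * ∑ i, X (θ i) := by
      rw [Finset.mul_sum]
      apply Finset.sum_congr rfl
      intro i _
      rw [hdeg i]
    rw [h4] at h3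
    exact (mul_eq_zero.mp h3).resolve_left hdn0
  have hS2 : ∑ i, (θ i : G → ℂ) t * X (θ i) = (c : ℂ) := by
    have h1 := second_orthogonality_sum_of_isConj t t (IsConj.refl t)
    have h2 := second_orthogonality_sum_of_not_isConj t x0 hnctx
    have h3 : ∑ ψ : IrrCharacter G, (ψ : G → ℂ) t * X ψ = (c : ℂ) := by
      have h4 : ∑ ψ : IrrCharacter G, (ψ : G → ℂ) t * X ψ
          = ∑ ψ : IrrCharacter G, (ψ : G → ℂ) t * conj ((ψ : G → ℂ) t)
            - ∑ ψ : IrrCharacter G, (ψ : G → ℂ) t * conj ((ψ : G → ℂ) x0) := by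
        rw [← Finset.sum_sub_distrib]
        apply Finset.sum_congr rfl
        intro ψ _
        rw [hX]
        ring
      rw [h4, h1, h2, sub_zero, hc]
    rw [hsplit0 _ (fun ψ hψ => by rw [hX0 ψ hψ, mul_zero])] at h3
    exact h3
  have hS3 : (gN : ℂ) * ((ε : ℂ) * ((e : ℂ) - 1) * (c : ℂ))
      = ((c : ℂ) ^ 2 * ((e : ℂ) - 1)) * (dn : ℂ) := by
    have h1 : (gN : ℂ) * ∑ ψ : IrrCharacter G,
        (ψ : G → ℂ) t * (ψ : G → ℂ) t * conj ((ψ : G → ℂ) t) / (ψ : G → ℂ) 1
        = (c : ℂ) ^ 2 * ((e : ℂ) - 1) := by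
      have h := conj_pair_count t t t
      rw [hgN, ← h]
      have h' := pair_count_t hG hCT ht1 ht
      have h'' : (Finset.univ.filter
          (fun p : G × G => p.1 * t * p.1⁻¹ * (p.2 * t * p.2⁻¹) = t)).card
          = c ^ 2 * (e - 1) := by
        have h5 : (Vs t).card - 2 = e - 1 := by omega
        rw [hc, ← h5]
        convert h'
      rw [h'']
      push_cast [Nat.cast_sub (show 1 ≤ e by omega)]
      ring
    have h2 : (gN : ℂ) * ∑ ψ : IrrCharacter G,
        (ψ : G → ℂ) t * (ψ : G → ℂ) t * conj ((ψ : G → ℂ) x0) / (ψ : G → ℂ) 1 = 0 := by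
      have h := conj_pair_count t t x0
      rw [hgN, ← h]
      have h' := pair_count_x hCT ht1 ht hx0 hx02
      have h'' : (Finset.univ.filter
          (fun p : G × G => p.1 * t * p.1⁻¹ * (p.2 * t * p.2⁻¹) = x0)).card = 0 := by
        convert h'
      rw [h'']
      simp
    have h3 : ∑ ψ : IrrCharacter G, (ψ : G → ℂ) t * (ψ : G → ℂ) t * X ψ / (ψ : G → ℂ) 1
        = ∑ ψ : IrrCharacter G,
            (ψ : G → ℂ) t * (ψ : G → ℂ) t * conj ((ψ : G → ℂ) t) / (ψ : G → ℂ) 1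
          - ∑ ψ : IrrCharacter G,
            (ψ : G → ℂ) t * (ψ : G → ℂ) t * conj ((ψ : G → ℂ) x0) / (ψ : G → ℂ) 1 := by
      rw [← Finset.sum_sub_distrib]
      apply Finset.sum_congr rfl
      intro ψ _
      rw [hX]
      ring
    have h4 : (gN : ℂ) * ∑ ψ : IrrCharacter G,
        (ψ : G → ℂ) t * (ψ : G → ℂ) t * X ψ / (ψ : G → ℂ) 1
        = (c : ℂ) ^ 2 * ((e : ℂ) - 1) := by
      rw [h3, mul_sub, h1, h2, sub_zero]
    rw [hsplit0 _ (fun ψ hψ => by rw [hX0 ψ hψ, mul_zero, zero_div])] at h4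
    have h5 : ∑ i, (θ i : G → ℂ) t * (θ i : G → ℂ) t * X (θ i) / (θ i : G → ℂ) 1
        = ((ε : ℂ) * ((e : ℂ) - 1) * (c : ℂ)) / (dn : ℂ) := by
      have h6 : ∀ i, (θ i : G → ℂ) t * (θ i : G → ℂ) t * X (θ i) / (θ i : G → ℂ) 1
          = ((ε : ℂ) * ((e : ℂ) - 1) * ((θ i : G → ℂ) t * X (θ i)) + (e : ℂ) * X (θ i))
            / (dn : ℂ) := by
        intro i
        rw [hdeg i, hτ2 i]
        ring
      rw [Finset.sum_congr rfl (fun i _ => h6 i), ← Finset.sum_div, Finset.sum_add_distrib,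
        ← Finset.mul_sum, ← Finset.mul_sum, hS1, hS2]
      ring
    rw [h5] at h4
    rw [← h4]
    field_simp
  -- `c * dn = ε * |G|`
  have hcne : (c : ℂ) ≠ 0 := by
    rw [hc]
    exact Nat.cast_ne_zero.mpr Nat.card_pos.ne'
  have he1 : (e : ℂ) - 1 ≠ 0 := by
    have h1 : (e : ℂ) ≠ 1 := by
      intro h
      have h2 : e = 1 := by exact_mod_cast h
      omega
    exact sub_ne_zero.mpr h1
  have hcd : (c : ℂ) * (dn : ℂ) = (ε : ℂ) * (gN : ℂ) := by
    have h : ((c : ℂ) * ((e : ℂ) - 1)) * ((c : ℂ) * (dn : ℂ))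
        = ((c : ℂ) * ((e : ℂ) - 1)) * ((ε : ℂ) * (gN : ℂ)) := by
      linear_combination -hS3
    exact mul_left_cancel₀ (mul_ne_zero hcne he1) h
  have hgpos : 0 < gN := by
    rw [hgN]
    exact Nat.card_pos
  have hε1 : ε = 1 := by
    rcases hε with h | h
    · exact h
    · exfalso
      rw [h] at hcd
      have h1 : ((c * dn + gN : ℕ) : ℂ) = 0 := by
        push_cast
        rw [hcd]
        push_cast
        ring
      have h2 : c * dn + gN = 0 := by exact_mod_cast h1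
      omega
  rw [hε1] at hcd
  have hcdN : c * dn = gN := by
    have h1 : ((c * dn : ℕ) : ℂ) = ((gN : ℕ) : ℂ) := by
      push_cast
      rw [hcd]
      push_cast
      ring
    exact_mod_cast h1
  -- `dn ^ 2 + 1 ≤ |G|`
  have hdeg2 : dn * dn + 1 ≤ gN := by
    have h1 := sum_charDegree_sq_sum (G := G)
    have hne : trivIrr G ≠ θ i₀ := fun h => hθT i₀ h.symm
    have h2 : ∑ χ ∈ ({trivIrr G, θ i₀} : Finset (IrrCharacter G)),
        charDegree (χ : G → ℂ) ^ 2 ≤ ∑ χ : IrrCharacter G, charDegree (χ : G → ℂ) ^ 2 :=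
      Finset.sum_le_sum_of_subset (Finset.subset_univ _)
    rw [Finset.sum_pair hne, h1] at h2
    have h3 : charDegree ((trivIrr G : IrrCharacter G) : G → ℂ) = 1 := by
      have h := char_natCast_charDegree (isCharacter_of_irr (trivIrr G).2)
      rw [trivIrr_apply] at h
      exact_mod_cast h
    have h4 : charDegree ((θ i₀ : IrrCharacter G) : G → ℂ) = dn := by
      have h := char_natCast_charDegree (isCharacter_of_irr (θ i₀).2)
      rw [hd] at h
      exact_mod_cast h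
    rw [h3, h4, ← hgN, one_pow, sq] at h2
    omega
  -- contradiction
  have h1 : gN * gN = (c * c) * (dn * dn) := by
    rw [← hcdN]
    ring
  have h2 : (c * c) * (dn * dn) ≤ gN * (dn * dn) :=
    Nat.mul_le_mul_right _ (by rw [← sq]; exact hcG)
  have h3 : gN * (dn * dn) < gN * gN := by nlinarith
  linarith

end Cfsg.Agent.Lib.Helper39.CTFinal
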