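import Mathlib
import Cfsg.Agent.Lib.Helper39.CTGroup
import Cfsg.Agent.Lib.Helper93.Gl2Special

/-!
`PSL₂(F)` over a field of characteristic two is a CT-group.
-/

set_option autoImplicit false

namespace Cfsg.Agent.Lib.Helper39.CTPSL

open Cfsg.Agent.Lib.Helper39.CTGroup Cfsg.Agent.Lib.Helper93.Gl2Special

variable {F : Type*} [Field F]

theorem eq_one_of_sq_eq_one (h2 : (2 : F) = 0) {r : F} (hr : r ^ 2 = 1) : r = 1 := by
  have h : (r - 1) ^ 2 = 0 := by linear_combination hr + (1 - r) * h2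
  exact sub_eq_zero.mp ((pow_eq_zero_iff (two_ne_zero)).mp h)

theorem center_eq_bot (h2 : (2 : F) = 0) :
    Subgroup.center (Matrix.SpecialLinearGroup (Fin 2) F) = ⊥ := by
  rw [eq_bot_iff]
  intro A hA
  rw [Matrix.SpecialLinearGroup.mem_center_iff] at hA
  obtain ⟨r, hr, hrA⟩ := hA
  rw [Subgroup.mem_bot]
  rw [Fintype.card_fin] at hr
  have hr1 : r = 1 := eq_one_of_sq_eq_one h2 hr
  apply Subtype.ext
  rw [← hrA, hr1]
  simp

theorem eq_one_of_isSc (h2 : (2 : F) = 0) (B : Matrix.SpecialLinearGroup (Fin 2) F)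
    (hsc : IsSc (B : Matrix (Fin 2) (Fin 2) F)) : B = 1 := by
  obtain ⟨h01, h10, h00⟩ := hsc
  have hdet := B.det_coe
  rw [Matrix.det_fin_two, h01, h10, ← h00] at hdet
  have hr : (B : Matrix (Fin 2) (Fin 2) F) 0 0 = 1 := by
    apply eq_one_of_sq_eq_one h2
    rw [sq]
    linear_combination hdet
  apply Subtype.ext
  apply ext2
  · rw [hr]; simp
  · rw [h01]; simp
  · rw [h10]; simp
  · rw [← h00, hr]; simp

/-- `PSL₂(F)` is a CT-group when `F` has characteristic two. -/
theorem psl2_ct (h2 : (2 : F) = 0) : CT (Matrix.ProjectiveSpecialLinearGroup (Fin 2) F) := by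
  have hcen := center_eq_bot h2
  have hinj : ∀ X Y : Matrix.SpecialLinearGroup (Fin 2) F,
      (QuotientGroup.mk X : Matrix.ProjectiveSpecialLinearGroup (Fin 2) F) = QuotientGroup.mk Y →
      X = Y := by
    intro X Y h
    have h1 := QuotientGroup.eq.mp h
    rw [hcen, Subgroup.mem_bot] at h1
    exact inv_mul_eq_one.mp h1
  intro a b c ha hb hc hab hbc
  obtain ⟨A, rfl⟩ := QuotientGroup.mk_surjective a
  obtain ⟨B, rfl⟩ := QuotientGroup.mk_surjective b
  obtain ⟨C, rfl⟩ := QuotientGroup.mk_surjective c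
  have hAB : A * B = B * A := hinj _ _ hab.eq
  have hBC : B * C = C * B := hinj _ _ hbc.eq
  have hBsc : ¬ IsSc (B : Matrix (Fin 2) (Fin 2) F) := by
    intro hsc
    apply hb
    rw [eq_one_of_isSc h2 B hsc]
    rfl
  have hAC := comm_of_comm (B : Matrix (Fin 2) (Fin 2) F) A C hBsc
    (congrArg Subtype.val hAB) (congrArg Subtype.val hBC.symm)
  have hAC' : A * C = C * A := Subtype.ext hAC
  show (QuotientGroup.mk A : Matrix.ProjectiveSpecialLinearGroup (Fin 2) F) * QuotientGroup.mk C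
    = QuotientGroup.mk C * QuotientGroup.mk A
  rw [← QuotientGroup.mk_mul, ← QuotientGroup.mk_mul, hAC']

end Cfsg.Agent.Lib.Helper39.CTPSL
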