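-- Involutions of SU_3(q), q odd: they are the reflections in the vectors of norm one.
import Mathlib
import Cfsg.Prelude.Def_Classical
import Cfsg.Prelude.Def_LieClassical
import Cfsg.Agent.Lib.Helper45.GUCard
import Cfsg.Agent.Lib.Helper45.SUCard

set_option autoImplicit false
set_option linter.unusedSectionVars false
set_option linter.unusedVariables false

namespace Cfsg.Agent.Lib.Helper39.SU3Inv

open Matrix Cfsg.Agent.Lib.Helper45.GUCard Cfsg.Agent.Lib.Helper45.SUCard

section algebra

variable {F : Type*} [Field F]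

theorem two_trace_adjugate (M : Matrix (Fin 3) (Fin 3) F) :
    2 * trace (adjugate M) = (trace M) ^ 2 - trace (M * M) := by
  rw [Matrix.adjugate_fin_three]
  simp [Matrix.trace, Fin.sum_univ_three, Matrix.mul_apply]
  ring

theorem two_adjugate (M : Matrix (Fin 3) (Fin 3) F) :
    (2 : F) • adjugate M = (2 : F) • (M * M) - (2 * trace M) • M +
      ((trace M) ^ 2 - trace (M * M)) • (1 : Matrix (Fin 3) (Fin 3) F) := by
  rw [Matrix.adjugate_fin_three]
  ext i j
  fin_cases i <;> fin_cases j <;>
    simp [Matrix.trace, Fin.sum_univ_three, Matrix.mul_apply] <;> ring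

set_option maxHeartbeats 4000000 in
/-- A `3 × 3` matrix with vanishing adjugate has rank at most one. -/
theorem minors_of_adjugate_eq_zero (A : Matrix (Fin 3) (Fin 3) F) (h : adjugate A = 0)
    (i j k l : Fin 3) : A i k * A j l = A i l * A j k := by
  rw [Matrix.adjugate_fin_three] at h
  have h00 := congrFun (congrFun h 0) 0
  have h01 := congrFun (congrFun h 0) 1
  have h02 := congrFun (congrFun h 0) 2
  have h10 := congrFun (congrFun h 1) 0
  have h11 := congrFun (congrFun h 1) 1
  have h12 := congrFun (congrFun h 1) 2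
  have h20 := congrFun (congrFun h 2) 0
  have h21 := congrFun (congrFun h 2) 1
  have h22 := congrFun (congrFun h 2) 2
  simp at h00 h01 h02 h10 h11 h12 h20 h21 h22
  fin_cases i <;> fin_cases j <;> fin_cases k <;> fin_cases l <;> simp <;>
    first
    | ring1
    | linear_combination h00
    | linear_combination -h00
    | linear_combination h01
    | linear_combination -h01
    | linear_combination h02
    | linear_combination -h02
    | linear_combination h10
    | linear_combination -h10
    | linear_combination h11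
    | linear_combination -h11
    | linear_combination h12
    | linear_combination -h12
    | linear_combination h20
    | linear_combination -h20
    | linear_combination h21
    | linear_combination -h21
    | linear_combination h22
    | linear_combination -h22

end algebra

section refl

variable {F : Type*} [Field F] {q : ℕ} (φ : F →+* F) (hφ : ∀ x, φ x = x ^ q)
  (hinv : ∀ x, φ (φ x) = x)

include hφ in
theorem det_R (w : Fin 3 → F) (c : F) :
    (R φ w c).det = 1 - c * Cfsg.hermForm 3 F q w w := by
  rw [herm_eq φ hφ]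
  simp [R, Matrix.det_fin_three, Matrix.vecMulVec_apply, dotProduct, Fin.sum_univ_three]
  ring

/-- The reflection in a vector of norm one. -/
def rf (v : Fin 3 → F) : Matrix (Fin 3) (Fin 3) F := -(R φ v 2)

include hφ in
theorem rf_mulVec (v x : Fin 3 → F) :
    rf φ v *ᵥ x = (2 * Cfsg.hermForm 3 F q x v) • v - x := by
  rw [rf, Matrix.neg_mulVec, R_mulVec φ hφ]
  abel

include hφ in
theorem herm_neg_neg (x y : Fin 3 → F) :
    Cfsg.hermForm 3 F q (-x) (-y) = Cfsg.hermForm 3 F q x y := by
  unfold Cfsg.hermForm
  apply Finset.sum_congr rfl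
  intro i _
  rw [Pi.neg_apply, Pi.neg_apply, ← hφ, ← hφ, map_neg]
  ring

include hφ hinv in
theorem rf_preserves (v : Fin 3 → F) (hv : Cfsg.hermForm 3 F q v v = 1) (x y : Fin 3 → F) :
    Cfsg.hermForm 3 F q (rf φ v *ᵥ x) (rf φ v *ᵥ y) = Cfsg.hermForm 3 F q x y := by
  rw [rf, Matrix.neg_mulVec, Matrix.neg_mulVec, herm_neg_neg φ hφ]
  apply R_preserves φ hφ hinv
  rw [hv, ← hφ, map_ofNat]
  ring

include hφ in
theorem rf_det (v : Fin 3 → F) (hv : Cfsg.hermForm 3 F q v v = 1) : (rf φ v).det = 1 := by
  rw [rf, Matrix.det_neg, det_R φ hφ, hv, Fintype.card_fin]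
  ring

end refl

section struct

variable {F : Type*} [Field F] [Fintype F] {q : ℕ} (hF : Fintype.card F = q ^ 2) (hq : Odd q)
  (φ : F →+* F) (hφ : ∀ x, φ x = x ^ q) (hinv : ∀ x, φ (φ x) = x)

include hF hq in
theorem two_ne_zero' : (2 : F) ≠ 0 := by
  intro h2
  have h := Nat.cast_card_eq_zero F
  rw [hF] at h
  obtain ⟨k, hk⟩ := hq
  have h1 : ((q : ℕ) : F) = 1 := by
    rw [hk]
    push_cast
    rw [h2, zero_mul, zero_add]
  push_cast at h
  rw [h1] at h
  simp at h

include hF hφ in
/-- Every nonzero element fixed by the conjugation is a norm. -/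
theorem exists_norm (c : F) (hc : c ≠ 0) (hcφ : φ c = c) : ∃ μ : F, μ * φ μ = c := by
  have h := Cfsg.Agent.Lib.Helper5.HermCount.card_norm_eq hF c hc (by rw [← hφ]; exact hcφ)
  have hne : Nonempty {x : F // x * x ^ q = c} := by
    apply (Nat.card_pos_iff.mp _).1
    rw [h]
    omega
  obtain ⟨⟨μ, hμ⟩⟩ := hne
  exact ⟨μ, by rw [hφ]; exact hμ⟩

include hF hq hφ hinv in
/-- An involution of determinant one preserving the Hermitian form is the reflection in a vector
of norm one. -/
theorem exists_rf_of_involution (T : Matrix (Fin 3) (Fin 3) F) (hT2 : T * T = 1) (hT1 : T ≠ 1)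
    (hdet : T.det = 1)
    (hT : ∀ u v, Cfsg.hermForm 3 F q (T *ᵥ u) (T *ᵥ v) = Cfsg.hermForm 3 F q u v) :
    ∃ v : Fin 3 → F, Cfsg.hermForm 3 F q v v = 1 ∧ T = rf φ v := by
  have h2 : (2 : F) ≠ 0 := two_ne_zero' hF hq
  -- the matrix is Hermitian
  have e1 := transpose_mul_map φ hφ T hT
  have e2 : T.map φ = Tᵀ := by
    have h : Tᵀ * Tᵀ = 1 := by rw [← Matrix.transpose_mul, hT2, Matrix.transpose_one]
    calc T.map φ = (Tᵀ * Tᵀ) * T.map φ := by rw [h, one_mul]
      _ = Tᵀ * (Tᵀ * T.map φ) := by rw [mul_assoc]
      _ = Tᵀ := by rw [e1, mul_one]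
  have hherm : ∀ i k, φ (T i k) = T k i := by
    intro i k
    have := congrFun (congrFun e2 i) k
    simpa using this
  -- the adjugate
  have e3 : adjugate T = T := by
    have h : T * adjugate T = 1 := by rw [Matrix.mul_adjugate, hdet, one_smul]
    calc adjugate T = (T * T) * adjugate T := by rw [hT2, one_mul]
      _ = T * (T * adjugate T) := by rw [mul_assoc]
      _ = T := by rw [h, mul_one]
  have htr : (trace T + 1) * (trace T - 3) = 0 := by
    have h := two_trace_adjugate T
    rw [e3, hT2, Matrix.trace_one, Fintype.card_fin] at h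
    push_cast at h
    linear_combination -h
  obtain ⟨A, hA⟩ : ∃ A : Matrix (Fin 3) (Fin 3) F, A = T + 1 := ⟨_, rfl⟩
  have hAA : A * A = (2 : F) • A := by
    rw [hA, add_mul, mul_add, mul_add, hT2, mul_one, one_mul, one_mul, two_smul]
    abel
  have htrA : trace A = trace T + 3 := by
    rw [hA, Matrix.trace_add, Matrix.trace_one, Fintype.card_fin]
    push_cast
    ring
  have hadj := two_adjugate A
  rw [hAA, Matrix.trace_smul, htrA] at hadj
  have htr1 : trace T = -1 := by
    rcases mul_eq_zero.mp htr with h | h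
    · linear_combination h
    · exfalso
      have h3 : trace T = 3 := by linear_combination h
      rw [h3] at hadj
      have h4 : (2 : F) • adjugate A = (-8 : F) • A + (24 : F) • (1 : Matrix (Fin 3) (Fin 3) F) := by
        rw [hadj]
        ext i j
        simp only [Matrix.add_apply, Matrix.sub_apply, Matrix.smul_apply, smul_eq_mul]
        ring
      have h5 : A * ((2 : F) • adjugate A) = (2 * A.det) • (1 : Matrix (Fin 3) (Fin 3) F) := by
        rw [Matrix.mul_smul, Matrix.mul_adjugate, smul_smul]
      rw [h4, Matrix.mul_add, Matrix.mul_smul, Matrix.mul_smul, hAA, mul_one, smul_smul] at h5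
      have h6 : (8 : F) • A = (2 * A.det) • (1 : Matrix (Fin 3) (Fin 3) F) := by
        rw [← h5]
        ext i j
        simp only [Matrix.add_apply, Matrix.smul_apply, smul_eq_mul]
        ring
      have h8 : (8 : F) ≠ 0 := by
        have : (8 : F) = 2 * 2 * 2 := by norm_num
        rw [this]
        exact mul_ne_zero (mul_ne_zero h2 h2) h2
      -- the matrix is scalar
      obtain ⟨s, hs⟩ : ∃ s : F, T = s • (1 : Matrix (Fin 3) (Fin 3) F) := by
        refine ⟨2 * A.det / 8 - 1, ?_⟩
        have h7 : A = (2 * A.det / 8) • (1 : Matrix (Fin 3) (Fin 3) F) := by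
          calc A = (8 : F)⁻¹ • ((8 : F) • A) := by rw [smul_smul, inv_mul_cancel₀ h8, one_smul]
            _ = (8 : F)⁻¹ • ((2 * A.det) • (1 : Matrix (Fin 3) (Fin 3) F)) := by rw [h6]
            _ = (2 * A.det / 8) • (1 : Matrix (Fin 3) (Fin 3) F) := by
              rw [smul_smul]
              congr 1
              field_simp
        have h9 : T = A - 1 := by rw [hA]; abel
        rw [h9]
        nth_rewrite 1 [h7]
        rw [sub_smul, one_smul]
      have hs2 : s * s = 1 := by
        have := congrFun (congrFun hT2 0) 0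
        rw [hs] at this
        simpa [Matrix.mul_apply, Fin.sum_univ_three] using this
      have hs3 : s ^ 3 = 1 := by
        rw [hs] at hdet
        simpa [Matrix.det_fin_three] using hdet
      have hs1 : s = 1 := by
        have h10 : s ^ 3 = s * (s * s) := by ring
        rw [h10, hs2, mul_one] at hs3
        exact hs3
      apply hT1
      rw [hs, hs1, one_smul]
  -- the rank is one
  rw [htr1] at hadj
  have hadj0 : adjugate A = 0 := by
    have h : (2 : F) • adjugate A = 0 := by
      rw [hadj]
      ext i j
      simp only [Matrix.add_apply, Matrix.sub_apply, Matrix.smul_apply, smul_eq_mul,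
        Matrix.zero_apply]
      ring
    have := smul_eq_zero.mp h
    exact this.resolve_left h2
  have hmin := minors_of_adjugate_eq_zero A hadj0
  have htrA2 : trace A = 2 := by
    rw [htrA, htr1]
    norm_num
  have hAherm : ∀ i k, φ (A i k) = A k i := by
    intro i k
    rw [hA, Matrix.add_apply, Matrix.add_apply, map_add, hherm, Matrix.one_apply, Matrix.one_apply]
    by_cases hik : i = k
    · subst hik
      simp
    · rw [if_neg hik, if_neg (fun h => hik h.symm), map_zero]
  -- a nonzero diagonal entry
  obtain ⟨j, hj⟩ : ∃ j, A j j ≠ 0 := by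
    by_contra hcon
    push Not at hcon
    have : trace A = 0 := by
      rw [Matrix.trace]
      apply Finset.sum_eq_zero
      intro i _
      exact hcon i
    rw [htrA2] at this
    exact h2 this
  have hjφ : φ (2 * A j j) = 2 * A j j := by
    rw [map_mul, map_ofNat, hAherm]
  obtain ⟨μ, hμ⟩ := exists_norm hF φ hφ (2 * A j j)⁻¹ (inv_ne_zero (mul_ne_zero h2 hj))
    (by rw [map_inv₀, hjφ])
  have hentry : ∀ i k, 2 * ((μ * A i j) * φ (μ * A k j)) = A i k := by
    intro i k
    rw [map_mul, hAherm]
    have h1 := hmin i j k j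
    have h3 : 2 * (μ * A i j * (φ μ * A j k)) = 2 * (μ * φ μ) * (A i j * A j k) := by ring
    rw [h3, hμ, ← h1]
    field_simp
  refine ⟨fun i => μ * A i j, ?_, ?_⟩
  · have h1 : Cfsg.hermForm 3 F q (fun i => μ * A i j) (fun i => μ * A i j) =
        ∑ i, (μ * A i j) * φ (μ * A i j) := by
      unfold Cfsg.hermForm
      apply Finset.sum_congr rfl
      intro i _
      rw [hφ]
    have h3 : (2 : F) * ∑ i, (μ * A i j) * φ (μ * A i j) = 2 := by
      rw [Finset.mul_sum]
      simp only [hentry]
      exact htrA2
    rw [h1]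
    exact mul_left_cancel₀ h2 (by rw [h3, mul_one])
  · have h9 : T = A - 1 := by rw [hA]; abel
    rw [h9, rf, R]
    ext i k
    simp only [Matrix.sub_apply, Matrix.neg_apply, Matrix.smul_apply, Matrix.vecMulVec_apply,
      Function.comp_apply, smul_eq_mul]
    rw [← hentry i k]
    ring

end struct

end Cfsg.Agent.Lib.Helper39.SU3Inv
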