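-- Involutions of SU_3(q), q odd: conjugacy, commuting reflections, orthonormal frames.
import Mathlib
import Cfsg.Agent.Lib.Helper39.SU3Inv

set_option autoImplicit false
set_option linter.unusedSectionVars false
set_option linter.unusedVariables false

namespace Cfsg.Agent.Lib.Helper39.SU3Conj

open Matrix Cfsg.Agent.Lib.Helper45.GUCard Cfsg.Agent.Lib.Helper45.SUCard
  Cfsg.Agent.Lib.Helper39.SU3Inv

variable {F : Type*} [Field F] {q : ℕ} (φ : F →+* F) (hφ : ∀ x, φ x = x ^ q)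
  (hinv : ∀ x, φ (φ x) = x)

/-- An element of `SU_3` from a matrix. -/
def mkSU (M : Matrix (Fin 3) (Fin 3) F) (hdet : M.det = 1)
    (hM : ∀ u v, Cfsg.hermForm 3 F q (M *ᵥ u) (M *ᵥ v) = Cfsg.hermForm 3 F q u v) :
    ↥(Cfsg.SU 3 F q) :=
  ⟨⟨M, hdet⟩, fun u v => hM u v⟩

theorem mkSU_coe (M : Matrix (Fin 3) (Fin 3) F) (hdet : M.det = 1)
    (hM : ∀ u v, Cfsg.hermForm 3 F q (M *ᵥ u) (M *ᵥ v) = Cfsg.hermForm 3 F q u v) :
    ((mkSU M hdet hM : ↥(Cfsg.SU 3 F q)) : Matrix.SpecialLinearGroup (Fin 3) F).1 = M := rfl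

theorem su_ext (a b : ↥(Cfsg.SU 3 F q))
    (h : (a : Matrix.SpecialLinearGroup (Fin 3) F).1 = (b : Matrix.SpecialLinearGroup (Fin 3) F).1) :
    a = b :=
  Subtype.ext (Subtype.ext h)

theorem su_mul_coe (a b : ↥(Cfsg.SU 3 F q)) :
    ((a * b : ↥(Cfsg.SU 3 F q)) : Matrix.SpecialLinearGroup (Fin 3) F).1 =
      (a : Matrix.SpecialLinearGroup (Fin 3) F).1 * (b : Matrix.SpecialLinearGroup (Fin 3) F).1 :=
  rfl

theorem su_one_coe :
    ((1 : ↥(Cfsg.SU 3 F q)) : Matrix.SpecialLinearGroup (Fin 3) F).1 = 1 := rfl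

theorem su_preserves (a : ↥(Cfsg.SU 3 F q)) (u v : Fin 3 → F) :
    Cfsg.hermForm 3 F q ((a : Matrix.SpecialLinearGroup (Fin 3) F).1 *ᵥ u)
      ((a : Matrix.SpecialLinearGroup (Fin 3) F).1 *ᵥ v) = Cfsg.hermForm 3 F q u v :=
  a.2 u v

/-- The reflection in a vector of norm one, as an element of `SU_3`. -/
def rfSU (v : Fin 3 → F) (hv : Cfsg.hermForm 3 F q v v = 1) : ↥(Cfsg.SU 3 F q) :=
  mkSU (rf φ v) (rf_det φ hφ v hv) (rf_preserves φ hφ hinv v hv)

theorem rfSU_coe (v : Fin 3 → F) (hv : Cfsg.hermForm 3 F q v v = 1) :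
    ((rfSU φ hφ hinv v hv : ↥(Cfsg.SU 3 F q)) : Matrix.SpecialLinearGroup (Fin 3) F).1 = rf φ v :=
  rfl

include hφ in
/-- Conjugating a reflection by an isometry. -/
theorem mul_rf (M : Matrix (Fin 3) (Fin 3) F)
    (hM : ∀ u v, Cfsg.hermForm 3 F q (M *ᵥ u) (M *ᵥ v) = Cfsg.hermForm 3 F q u v)
    (v : Fin 3 → F) : M * rf φ v = rf φ (M *ᵥ v) * M := by
  apply Matrix.mulVec_injective
  funext x
  rw [← Matrix.mulVec_mulVec, ← Matrix.mulVec_mulVec, rf_mulVec φ hφ, rf_mulVec φ hφ,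
    Matrix.mulVec_sub, Matrix.mulVec_smul, hM x v]

include hφ in
/-- The reflection depends only on the vector up to a scalar of norm one. -/
theorem rf_smul (l : F) (hl : l * φ l = 1) (v : Fin 3 → F) : rf φ (l • v) = rf φ v := by
  apply Matrix.mulVec_injective
  funext x
  rw [rf_mulVec φ hφ, rf_mulVec φ hφ, herm_smul_right φ hφ, smul_smul, ← hφ]
  congr 2
  linear_combination (2 * Cfsg.hermForm 3 F q x v) * hl

include hφ in
theorem rf_mulVec_self (v : Fin 3 → F) (hv : Cfsg.hermForm 3 F q v v = 1) :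
    rf φ v *ᵥ v = v := by
  rw [rf_mulVec φ hφ, hv, mul_one, two_smul]
  abel

include hφ hinv in
theorem rf_mul_self (v : Fin 3 → F) (hv : Cfsg.hermForm 3 F q v v = 1) :
    rf φ v * rf φ v = 1 := by
  apply Matrix.mulVec_injective
  funext x
  rw [← Matrix.mulVec_mulVec, rf_mulVec φ hφ, rf_mulVec φ hφ, Matrix.one_mulVec,
    herm_sub_left φ hφ, herm_smul_left φ hφ, hv]
  funext i
  simp only [Pi.sub_apply, Pi.smul_apply, smul_eq_mul]
  ring

section trans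

variable [Fintype F] (hF : Fintype.card F = q ^ 2)

include hF hφ hinv in
/-- Any two reflections are conjugate under `SU_3`. -/
theorem exists_conj_rf (u v : Fin 3 → F) (hu : Cfsg.hermForm 3 F q u u = 1)
    (hv : Cfsg.hermForm 3 F q v v = 1) :
    ∃ s : ↥(Cfsg.SU 3 F q), s * rfSU φ hφ hinv u hu = rfSU φ hφ hinv v hv * s := by
  obtain ⟨g₀, hg₀⟩ := transitive hF u v hu hv
  obtain ⟨G, hG⟩ : ∃ G : Matrix (Fin 3) (Fin 3) F,
      G = ((g₀ : GL (Fin 3) F) : Matrix (Fin 3) (Fin 3) F) := ⟨_, rfl⟩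
  rw [← hG] at hg₀
  have hGpres : ∀ x y, Cfsg.hermForm 3 F q (G *ᵥ x) (G *ᵥ y) = Cfsg.hermForm 3 F q x y := by
    intro x y
    rw [hG]
    exact (mem_GU_iff g₀.1).1 g₀.2 x y
  have hd := det_mul_det_pow φ hφ G hGpres
  obtain ⟨d, hdd⟩ : ∃ d : F, d = G.det := ⟨_, rfl⟩
  rw [← hdd] at hd
  have hd0 : d ≠ 0 := by
    rintro rfl
    simp at hd
  have hdφ : φ d = d⁻¹ := by
    rw [hφ]
    exact eq_inv_of_mul_eq_one_right hd
  have hc : (1 - d⁻¹) + (1 - d⁻¹) ^ q =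
      (1 - d⁻¹) * (1 - d⁻¹) ^ q * Cfsg.hermForm 3 F q u u := by
    rw [hu, ← hφ, map_sub, map_one, map_inv₀, hdφ, inv_inv]
    field_simp
    ring
  have hDpres := R_preserves φ hφ hinv u (1 - d⁻¹) hc
  have hDdet : (R φ u (1 - d⁻¹)).det = d⁻¹ := by
    rw [det_R φ hφ, hu]
    ring
  have hMdet : (G * R φ u (1 - d⁻¹)).det = 1 := by
    rw [Matrix.det_mul, hDdet, ← hdd, mul_inv_cancel₀ hd0]
  have hMpres : ∀ x y, Cfsg.hermForm 3 F q ((G * R φ u (1 - d⁻¹)) *ᵥ x)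
      ((G * R φ u (1 - d⁻¹)) *ᵥ y) = Cfsg.hermForm 3 F q x y := by
    intro x y
    rw [← Matrix.mulVec_mulVec, ← Matrix.mulVec_mulVec, hGpres, hDpres]
  have hMu : (G * R φ u (1 - d⁻¹)) *ᵥ u = d⁻¹ • v := by
    rw [← Matrix.mulVec_mulVec, R_mulVec φ hφ, hu, mul_one, Matrix.mulVec_sub, Matrix.mulVec_smul,
      hg₀, sub_smul, one_smul]
    abel
  refine ⟨mkSU (G * R φ u (1 - d⁻¹)) hMdet hMpres, ?_⟩
  apply su_ext
  rw [su_mul_coe, su_mul_coe, rfSU_coe, rfSU_coe, mkSU_coe, mul_rf φ hφ _ hMpres, hMu,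
    rf_smul φ hφ d⁻¹ (by rw [map_inv₀, hdφ, inv_inv, inv_mul_cancel₀ hd0])]

include hF hφ hinv in
/-- Every involution of `SU_3(q)`, `q` odd, is a reflection. -/
theorem exists_rfSU (hq : Odd q) (t : ↥(Cfsg.SU 3 F q)) (ht : t ≠ 1) (ht2 : t * t = 1) :
    ∃ (v : Fin 3 → F) (hv : Cfsg.hermForm 3 F q v v = 1), t = rfSU φ hφ hinv v hv := by
  have h1 : (t : Matrix.SpecialLinearGroup (Fin 3) F).1 * (t : Matrix.SpecialLinearGroup (Fin 3) F).1
      = 1 := by
    rw [← su_mul_coe, ht2]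
    rfl
  have h2 : (t : Matrix.SpecialLinearGroup (Fin 3) F).1 ≠ 1 := by
    intro h
    apply ht
    apply su_ext
    rw [h]
    rfl
  obtain ⟨v, hv, hT⟩ := exists_rf_of_involution hF hq φ hφ hinv _ h1 h2 t.1.2 (su_preserves t)
  exact ⟨v, hv, su_ext _ _ hT⟩

include hF hφ hinv in
/-- All involutions of `SU_3(q)`, `q` odd, are conjugate. -/
theorem all_conj (hq : Odd q) (t x : ↥(Cfsg.SU 3 F q)) (ht : t ≠ 1) (ht2 : t * t = 1)
    (hx : x ≠ 1) (hx2 : x * x = 1) : ∃ g : ↥(Cfsg.SU 3 F q), g * t * g⁻¹ = x := by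
  obtain ⟨u, hu, rfl⟩ := exists_rfSU φ hφ hinv hF hq t ht ht2
  obtain ⟨v, hv, rfl⟩ := exists_rfSU φ hφ hinv hF hq x hx hx2
  obtain ⟨s, hs⟩ := exists_conj_rf φ hφ hinv hF u v hu hv
  exact ⟨s, by rw [hs, mul_inv_cancel_right]⟩

include hF hφ hinv in
/-- Distinct commuting reflections have orthogonal vectors. -/
theorem herm_eq_zero_of_commute (hq : Odd q) (u v : Fin 3 → F)
    (hu : Cfsg.hermForm 3 F q u u = 1) (hv : Cfsg.hermForm 3 F q v v = 1)
    (hcomm : rf φ u * rf φ v = rf φ v * rf φ u) (hne : rf φ u ≠ rf φ v) :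
    Cfsg.hermForm 3 F q u v = 0 := by
  have h2 : (2 : F) ≠ 0 := two_ne_zero' hF hq
  by_contra h
  obtain ⟨y, hy⟩ : ∃ y : Fin 3 → F, y = rf φ v *ᵥ u := ⟨_, rfl⟩
  have h1 : rf φ u *ᵥ y = y := by
    rw [hy, Matrix.mulVec_mulVec, hcomm, ← Matrix.mulVec_mulVec, rf_mulVec_self φ hφ u hu]
  rw [rf_mulVec φ hφ] at h1
  have h3 : y = Cfsg.hermForm 3 F q y u • u := by
    have h4 : (2 : F) • y = (2 : F) • (Cfsg.hermForm 3 F q y u • u) := by
      rw [two_smul, smul_smul]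
      nth_rewrite 1 [← h1]
      abel
    have h5 := congrArg (fun z => (2 : F)⁻¹ • z) h4
    simpa [smul_smul, inv_mul_cancel₀ h2, inv_mul_cancel_left₀ h2] using h5
  rw [hy, rf_mulVec φ hφ] at h3
  -- v is a multiple of u
  obtain ⟨l, hl⟩ : ∃ l : F, v = l • u := by
    have h4 : (2 * Cfsg.hermForm 3 F q u v) • v =
        (1 + Cfsg.hermForm 3 F q ((2 * Cfsg.hermForm 3 F q u v) • v - u) u) • u := by
      rw [add_smul, one_smul, ← h3]
      abel
    have h5 : 2 * Cfsg.hermForm 3 F q u v ≠ 0 := mul_ne_zero h2 h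
    have h6 := congrArg (fun z => (2 * Cfsg.hermForm 3 F q u v)⁻¹ • z) h4
    simp only [smul_smul, inv_mul_cancel₀ h5, one_smul] at h6
    exact ⟨_, h6⟩
  have hl1 : l * φ l = 1 := by
    have := hv
    rw [hl, herm_smul_left φ hφ, herm_smul_right φ hφ, hu, mul_one, ← hφ] at this
    exact this
  apply hne
  rw [hl, rf_smul φ hφ l hl1]

include hφ hinv in
/-- An orthonormal triple is a basis: the completeness relation. -/
theorem complete (u v w : Fin 3 → F)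
    (hu : Cfsg.hermForm 3 F q u u = 1) (hv : Cfsg.hermForm 3 F q v v = 1)
    (hw : Cfsg.hermForm 3 F q w w = 1) (huv : Cfsg.hermForm 3 F q u v = 0)
    (huw : Cfsg.hermForm 3 F q u w = 0) (hvw : Cfsg.hermForm 3 F q v w = 0) (x : Fin 3 → F) :
    x = Cfsg.hermForm 3 F q x u • u + Cfsg.hermForm 3 F q x v • v +
      Cfsg.hermForm 3 F q x w • w := by
  have hvu : Cfsg.hermForm 3 F q v u = 0 := by rw [herm_symm φ hφ hinv u v, huv, ← hφ, map_zero]
  have hwu : Cfsg.hermForm 3 F q w u = 0 := by rw [herm_symm φ hφ hinv u w, huw, ← hφ, map_zero]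
  have hwv : Cfsg.hermForm 3 F q w v = 0 := by rw [herm_symm φ hφ hinv v w, hvw, ← hφ, map_zero]
  obtain ⟨B, hB⟩ : ∃ B : Matrix (Fin 3) (Fin 3) F, B = Matrix.of (fun i j => ![u, v, w] j i) :=
    ⟨_, rfl⟩
  obtain ⟨Bs, hBs⟩ : ∃ Bs : Matrix (Fin 3) (Fin 3) F,
      Bs = Matrix.of (fun j k => φ (![u, v, w] j k)) := ⟨_, rfl⟩
  have h1 : Bs * B = 1 := by
    simp only [Cfsg.hermForm, Fin.sum_univ_three, ← hφ] at hu hv hw huv huw hvw hvu hwu hwv
    rw [hB, hBs]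
    ext j k
    fin_cases j <;> fin_cases k <;>
      simp [Matrix.mul_apply, Fin.sum_univ_three] <;>
      first
      | linear_combination hu
      | linear_combination hv
      | linear_combination hw
      | linear_combination huv
      | linear_combination huw
      | linear_combination hvw
      | linear_combination hvu
      | linear_combination hwu
      | linear_combination hwv
  have h2 : B * Bs = 1 := mul_eq_one_comm.mp h1
  have h3 : (B * Bs) *ᵥ x = x := by rw [h2, Matrix.one_mulVec]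
  funext i
  have h4 := congrFun h3 i
  rw [hB, hBs] at h4
  simp only [Matrix.mulVec, dotProduct, Matrix.mul_apply, Fin.sum_univ_three, Matrix.of_apply,
    Matrix.cons_val_zero, Matrix.cons_val_one, Matrix.cons_val_two] at h4
  simp only [Cfsg.hermForm, Fin.sum_univ_three, ← hφ, Pi.add_apply, Pi.smul_apply, smul_eq_mul]
  rw [← h4]
  simp
  ring

include hφ hinv in
/-- The product of the reflections in an orthonormal triple is the identity. -/
theorem rf_mul_rf_mul_rf (u v w : Fin 3 → F)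
    (hu : Cfsg.hermForm 3 F q u u = 1) (hv : Cfsg.hermForm 3 F q v v = 1)
    (hw : Cfsg.hermForm 3 F q w w = 1) (huv : Cfsg.hermForm 3 F q u v = 0)
    (huw : Cfsg.hermForm 3 F q u w = 0) (hvw : Cfsg.hermForm 3 F q v w = 0) :
    rf φ u * rf φ v * rf φ w = 1 := by
  have hvu : Cfsg.hermForm 3 F q v u = 0 := by rw [herm_symm φ hφ hinv u v, huv, ← hφ, map_zero]
  have hwu : Cfsg.hermForm 3 F q w u = 0 := by rw [herm_symm φ hφ hinv u w, huw, ← hφ, map_zero]
  have hwv : Cfsg.hermForm 3 F q w v = 0 := by rw [herm_symm φ hφ hinv v w, hvw, ← hφ, map_zero]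
  apply Matrix.mulVec_injective
  funext x
  rw [← Matrix.mulVec_mulVec, ← Matrix.mulVec_mulVec, Matrix.one_mulVec, rf_mulVec φ hφ w,
    rf_mulVec φ hφ v, rf_mulVec φ hφ u]
  simp only [herm_sub_left φ hφ, herm_smul_left φ hφ, hwv, hwu, hvu, mul_zero, zero_sub, sub_zero,
    zero_smul]
  have hc := complete φ hφ hinv u v w hu hv hw huv huw hvw x
  funext i
  have hci := congrFun hc i
  simp only [Pi.add_apply, Pi.sub_apply, Pi.smul_apply, Pi.neg_apply, smul_eq_mul] at hci ⊢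
  linear_combination (-2 : F) * hci

end trans

end Cfsg.Agent.Lib.Helper39.SU3Conj
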