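-- Decomposition of characters: constituents, multiplicities and norms.
import Mathlib
import Cfsg.Prelude.Def_Characters
import Cfsg.Agent.Lib.CT.NormOne

set_option autoImplicit false
set_option linter.unusedSectionVars false
set_option linter.unusedVariables false
set_option linter.style.haveILetI false

namespace Cfsg.Agent.Lib.Helper39.Decomp

open Cfsg Cfsg.Agent.Lib.CT Cfsg.Agent.Lib.CT.Wedderburn
open scoped ComplexConjugate

universe u

variable {G : Type u} [Group G] [Fintype G]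

theorem classInner_add_right (f ψ₁ ψ₂ : G → ℂ) :
    classInner f (ψ₁ + ψ₂) = classInner f ψ₁ + classInner f ψ₂ := by
  simp only [classInner, Pi.add_apply, map_add, mul_add, Finset.sum_add_distrib]

/-- The inner product of two characters is the sum of the products of their multiplicities; in
particular it is at least the product of the multiplicities of any given irreducible character. -/
theorem inner_nat_mul_le {Ψ₁ Ψ₂ χ : G → ℂ} (h₁ : IsCharacter G Ψ₁) (h₂ : IsCharacter G Ψ₂)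
    (hχ : IsIrrCharacter G χ) (n₁ n₂ : ℕ) (e₁ : classInner Ψ₁ χ = n₁)
    (e₂ : classInner Ψ₂ χ = n₂) : ∃ N : ℕ, classInner Ψ₁ Ψ₂ = N ∧ n₁ * n₂ ≤ N := by
  classical
  haveI := finite_irrCharacter G
  haveI := Fintype.ofFinite (IrrCharacter G)
  obtain ⟨m₁, hm₁, hexp₁⟩ := NormOne.exists_mult_sum h₁
  obtain ⟨m₂, hm₂, hexp₂⟩ := NormOne.exists_mult_sum h₂
  have h1 : classInner Ψ₁ Ψ₂ =
      classInner (∑ ψ : IrrCharacter G, (m₁ ψ : ℂ) • (ψ : G → ℂ)) Ψ₂ := by
    rw [← hexp₁]
  have h2 : classInner Ψ₁ Ψ₂ = ((∑ η : IrrCharacter G, m₁ η * m₂ η : ℕ) : ℂ) := by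
    rw [h1, Orth.classInner_sum_left]
    push_cast
    apply Finset.sum_congr rfl
    intro η _
    rw [Orth.classInner_smul_left, Clifford.classInner_conj_symm, hm₂ η, Complex.conj_natCast]
  refine ⟨_, h2, ?_⟩
  have e₁' : m₁ ⟨χ, hχ⟩ = n₁ := by
    have := (hm₁ ⟨χ, hχ⟩).symm.trans e₁
    exact_mod_cast this
  have e₂' : m₂ ⟨χ, hχ⟩ = n₂ := by
    have := (hm₂ ⟨χ, hχ⟩).symm.trans e₂
    exact_mod_cast this
  rw [← e₁', ← e₂']
  exact Finset.single_le_sum (f := fun η : IrrCharacter G => m₁ η * m₂ η)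
    (fun _ _ => Nat.zero_le _) (Finset.mem_univ _)

/-- An irreducible constituent can be split off. -/
theorem exists_add_of_inner_ne_zero {Ψ χ : G → ℂ} (hΨ : IsCharacter G Ψ)
    (hχ : IsIrrCharacter G χ) (h : classInner Ψ χ ≠ 0) :
    ∃ Ψ' : G → ℂ, IsCharacter G Ψ' ∧ Ψ = χ + Ψ' := by
  classical
  haveI := finite_irrCharacter G
  haveI := Fintype.ofFinite (IrrCharacter G)
  obtain ⟨m, hm, hexp⟩ := NormOne.exists_mult_sum hΨ
  have hpos : 1 ≤ m ⟨χ, hχ⟩ := by
    rw [Nat.one_le_iff_ne_zero]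
    intro h0
    apply h
    rw [hm ⟨χ, hχ⟩, h0]
    simp
  have h1 : χ = ∑ η : IrrCharacter G,
      ((if η = (⟨χ, hχ⟩ : IrrCharacter G) then 1 else 0 : ℕ) : ℂ) • (η : G → ℂ) := by
    rw [Finset.sum_eq_single (⟨χ, hχ⟩ : IrrCharacter G)]
    · simp
    · intro η _ hne
      rw [if_neg hne]
      simp
    · intro hh
      exact absurd (Finset.mem_univ _) hh
  refine ⟨∑ η : IrrCharacter G,
    ((m η - if η = (⟨χ, hχ⟩ : IrrCharacter G) then 1 else 0 : ℕ) : ℂ) • (η : G → ℂ), ?_, ?_⟩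
  · apply Ops.isCharacter_sum
    intro η _
    exact Ops.isCharacter_natCast_smul (isCharacter_of_irr η.2) _
  · calc Ψ = ∑ ψ : IrrCharacter G, (m ψ : ℂ) • (ψ : G → ℂ) := hexp
      _ = ∑ η : IrrCharacter G,
          (((if η = (⟨χ, hχ⟩ : IrrCharacter G) then 1 else 0 : ℕ) : ℂ) • (η : G → ℂ) +
          ((m η - if η = (⟨χ, hχ⟩ : IrrCharacter G) then 1 else 0 : ℕ) : ℂ) • (η : G → ℂ)) := by
        apply Finset.sum_congr rfl
        intro η _
        rw [← add_smul]
        congr 1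
        by_cases hη : η = ⟨χ, hχ⟩
        · rw [if_pos hη, hη]
          have : ((m ⟨χ, hχ⟩ - 1 : ℕ) : ℂ) = (m ⟨χ, hχ⟩ : ℂ) - 1 := by
            rw [Nat.cast_sub hpos, Nat.cast_one]
          rw [this]
          push_cast
          ring
        · rw [if_neg hη]
          simp
      _ = (∑ η : IrrCharacter G,
            ((if η = (⟨χ, hχ⟩ : IrrCharacter G) then 1 else 0 : ℕ) : ℂ) • (η : G → ℂ)) +
          ∑ η : IrrCharacter G,
            ((m η - if η = (⟨χ, hχ⟩ : IrrCharacter G) then 1 else 0 : ℕ) : ℂ) • (η : G → ℂ) :=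
        Finset.sum_add_distrib
      _ = χ + ∑ η : IrrCharacter G,
            ((m η - if η = (⟨χ, hχ⟩ : IrrCharacter G) then 1 else 0 : ℕ) : ℂ) • (η : G → ℂ) := by
        rw [← h1]

/-- A character of degree zero is zero. -/
theorem eq_zero_of_apply_one_eq_zero {Ψ : G → ℂ} (hΨ : IsCharacter G Ψ) (h : Ψ 1 = 0) : Ψ = 0 := by
  classical
  haveI := finite_irrCharacter G
  haveI := Fintype.ofFinite (IrrCharacter G)
  obtain ⟨m, hm, hexp⟩ := NormOne.exists_mult_sum hΨ
  have hdeg : ∀ η : IrrCharacter G, ∃ d : ℕ, 0 < d ∧ (η : G → ℂ) 1 = d := fun η =>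
    irr_exists_apply_one_pos η.2
  choose d hd hdeg using hdeg
  have h1 : ((∑ η : IrrCharacter G, m η * d η : ℕ) : ℂ) = 0 := by
    rw [← h, hexp]
    push_cast
    rw [Finset.sum_apply]
    apply Finset.sum_congr rfl
    intro η _
    rw [Pi.smul_apply, smul_eq_mul, hdeg]
  have h2 : ∑ η : IrrCharacter G, m η * d η = 0 := by exact_mod_cast h1
  have h3 : ∀ η : IrrCharacter G, m η = 0 := by
    intro η
    have := (Finset.sum_eq_zero_iff.mp h2) η (Finset.mem_univ _)
    rcases Nat.mul_eq_zero.mp this with h4 | h4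
    · exact h4
    · exact absurd h4 (hd η).ne'
  rw [hexp]
  apply Finset.sum_eq_zero
  intro η _
  rw [h3 η]
  simp

/-- A nonzero character has an irreducible constituent. -/
theorem exists_constituent {Ψ : G → ℂ} (hΨ : IsCharacter G Ψ) (h : Ψ ≠ 0) :
    ∃ η : G → ℂ, IsIrrCharacter G η ∧ classInner Ψ η ≠ 0 := by
  classical
  haveI := finite_irrCharacter G
  haveI := Fintype.ofFinite (IrrCharacter G)
  obtain ⟨m, hm, hexp⟩ := NormOne.exists_mult_sum hΨ
  by_contra hcon
  push Not at hcon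
  apply h
  rw [hexp]
  apply Finset.sum_eq_zero
  intro η _
  have := hcon η η.2
  rw [hm η] at this
  rw [this]
  simp

/-- A character of norm two containing a given irreducible character is the sum of that character
and a different irreducible character. -/
theorem norm_two_decomp {Ψ χ : G → ℂ} (hΨ : IsCharacter G Ψ) (hχ : IsIrrCharacter G χ)
    (h2 : classInner Ψ Ψ = 2) (h : classInner Ψ χ ≠ 0) :
    ∃ χ' : G → ℂ, IsIrrCharacter G χ' ∧ χ' ≠ χ ∧ Ψ = χ + χ' := by
  obtain ⟨Ψ', hΨ', hsum⟩ := exists_add_of_inner_ne_zero hΨ hχ h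
  obtain ⟨n, hn⟩ := Clifford.classInner_char_nat hΨ' (isCharacter_of_irr hχ)
  obtain ⟨N, hN, hle⟩ := inner_nat_mul_le hΨ' hΨ' hχ n n hn hn
  have hχχ : classInner χ χ = 1 := NormOne.inner_self_eq_one_of_irr hχ
  have hχΨ' : classInner χ Ψ' = n := by
    rw [Clifford.classInner_conj_symm, hn, Complex.conj_natCast]
  have h3 : ((1 + n + n + N : ℕ) : ℂ) = ((2 : ℕ) : ℂ) := by
    push_cast
    rw [← h2, hsum, Orth.classInner_add_left, classInner_add_right, classInner_add_right, hχχ, hn,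
      hχΨ', hN]
    ring
  have h4 : 1 + n + n + N = 2 := by exact_mod_cast h3
  have hn0 : n = 0 := by omega
  have hN1 : N = 1 := by omega
  refine ⟨Ψ', NormOne.irr_of_inner_self_eq_one hΨ' (by rw [hN, hN1]; simp), ?_, hsum⟩
  intro heq
  rw [heq, hχχ, hn0] at hn
  simp at hn

/-- The multiplicity of an irreducible character in a character of norm at most three is at most
one. -/
theorem mult_le_one {Ψ χ : G → ℂ} (hΨ : IsCharacter G Ψ) (hχ : IsIrrCharacter G χ) (N : ℕ)
    (hN : classInner Ψ Ψ = N) (hN3 : N ≤ 3) (n : ℕ) (hn : classInner Ψ χ = n) : n ≤ 1 := by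
  obtain ⟨N', hN', hle⟩ := inner_nat_mul_le hΨ hΨ hχ n n hn hn
  have : N' = N := by
    have := hN'.symm.trans hN
    exact_mod_cast this
  subst this
  nlinarith

end Cfsg.Agent.Lib.Helper39.Decomp
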