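-- Hermitian forms over a finite field with an involution: vectors of norm one, transvections,
-- and a lower bound for the size of a set of non-zero Hermitian matrices stable under congruence.
import Mathlib
import Cfsg.Agent.Lib.Helper40.HermAdj
import Cfsg.Agent.Lib.Helper40.NormSurj

set_option autoImplicit false

namespace Cfsg.Agent.Lib.Helper39.LSHerm

open Matrix
open Cfsg.Agent.Lib.Helper40.HermAdj

variable {F : Type*} [Field F] {m : ℕ} (φ : F →+* F)

/-- the sesquilinear form attached to a matrix -/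
def Bf (T : Matrix (Fin m) (Fin m) F) (u v : Fin m → F) : F := (φ ∘ u) ⬝ᵥ (T *ᵥ v)

/-- the form on the diagonal -/
def Qf (T : Matrix (Fin m) (Fin m) F) (v : Fin m → F) : F := Bf φ T v v

theorem Bf_add_left (T : Matrix (Fin m) (Fin m) F) (u u' v : Fin m → F) :
    Bf φ T (u + u') v = Bf φ T u v + Bf φ T u' v := by
  unfold Bf
  rw [← add_dotProduct]
  congr 1
  funext i
  simp

theorem Bf_add_right (T : Matrix (Fin m) (Fin m) F) (u v v' : Fin m → F) :
    Bf φ T u (v + v') = Bf φ T u v + Bf φ T u v' := by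
  unfold Bf
  rw [Matrix.mulVec_add, dotProduct_add]

theorem Bf_smul_left (T : Matrix (Fin m) (Fin m) F) (c : F) (u v : Fin m → F) :
    Bf φ T (c • u) v = φ c * Bf φ T u v := by
  unfold Bf
  rw [← smul_eq_mul, ← smul_dotProduct]
  congr 1
  funext i
  simp

theorem Bf_smul_right (T : Matrix (Fin m) (Fin m) F) (c : F) (u v : Fin m → F) :
    Bf φ T u (c • v) = c * Bf φ T u v := by
  unfold Bf
  rw [Matrix.mulVec_smul, dotProduct_smul, smul_eq_mul]

theorem Bf_single (T : Matrix (Fin m) (Fin m) F) (i j : Fin m) :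
    Bf φ T (Pi.single i 1) (Pi.single j 1) = T i j := by
  unfold Bf
  rw [Matrix.mulVec_single_one]
  have : φ ∘ (Pi.single i (1 : F) : Fin m → F) = Pi.single i 1 := by
    funext k
    by_cases h : k = i
    · subst h
      simp
    · simp [Pi.single_eq_of_ne h]
  rw [this, single_dotProduct, one_mul]
  rfl

theorem Qf_add (T : Matrix (Fin m) (Fin m) F) (u v : Fin m → F) :
    Qf φ T (u + v) = Qf φ T u + Bf φ T u v + Bf φ T v u + Qf φ T v := by
  unfold Qf
  rw [Bf_add_left, Bf_add_right, Bf_add_right]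
  ring

theorem Qf_smul (T : Matrix (Fin m) (Fin m) F) (c : F) (v : Fin m → F) :
    Qf φ T (c • v) = c * φ c * Qf φ T v := by
  unfold Qf
  rw [Bf_smul_left, Bf_smul_right]
  ring

theorem Qf_zero (T : Matrix (Fin m) (Fin m) F) : Qf φ T 0 = 0 := by
  unfold Qf Bf
  rw [Matrix.mulVec_zero, dotProduct_zero]

/-- Hermitian symmetry -/
theorem Bf_symm (hφ2 : ∀ x, φ (φ x) = x) (T : Matrix (Fin m) (Fin m) F) (hT : adj φ T = T)
    (u v : Fin m → F) : Bf φ T v u = φ (Bf φ T u v) := by
  have hT' : ∀ i j, φ (T i j) = T j i := fun i j => by rw [← adj_apply φ T j i, hT]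
  unfold Bf
  simp only [dotProduct, Matrix.mulVec, Function.comp_apply, map_sum, map_mul, hφ2, hT',
    Finset.mul_sum]
  rw [Finset.sum_comm]
  refine Finset.sum_congr rfl fun i _ => Finset.sum_congr rfl fun j _ => ?_
  ring

theorem phi_vecMul (A : Matrix (Fin m) (Fin m) F) (v : Fin m → F) :
    (φ ∘ v) ᵥ* adj φ A = φ ∘ (A *ᵥ v) := by
  funext j
  simp [Matrix.vecMul, Matrix.mulVec, dotProduct, adj_apply, map_sum, mul_comm]

theorem Bf_conj (A T : Matrix (Fin m) (Fin m) F) (u v : Fin m → F) :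
    Bf φ (adj φ A * T * A) u v = Bf φ T (A *ᵥ u) (A *ᵥ v) := by
  unfold Bf
  rw [← Matrix.mulVec_mulVec, ← Matrix.mulVec_mulVec, Matrix.dotProduct_mulVec, phi_vecMul]

theorem Qf_conj (A T : Matrix (Fin m) (Fin m) F) (v : Fin m → F) :
    Qf φ (adj φ A * T * A) v = Qf φ T (A *ᵥ v) := Bf_conj φ A T v v

/-- a non-zero matrix has a non-isotropic vector -/
theorem exists_Qf_ne_zero (l : F) (hl : φ l ≠ l) (T : Matrix (Fin m) (Fin m) F) (hT0 : T ≠ 0) :
    ∃ v, Qf φ T v ≠ 0 := by
  by_contra hcon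
  push Not at hcon
  apply hT0
  have h1 : ∀ u w, Bf φ T u w + Bf φ T w u = 0 := by
    intro u w
    have := Qf_add φ T u w
    rw [hcon, hcon, hcon] at this
    linear_combination -this
  have h2 : ∀ u w, Bf φ T u w = 0 := by
    intro u w
    have e1 := h1 (l • u) w
    rw [Bf_smul_left, Bf_smul_right] at e1
    have e2 := h1 u w
    have e3 : (φ l - l) * Bf φ T u w = 0 := by linear_combination e1 - l * e2
    rcases mul_eq_zero.mp e3 with h | h
    · exact absurd (sub_eq_zero.mp h) hl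
    · exact h
  ext i j
  rw [← Bf_single φ T i j, h2]
  rfl

/-- a non-zero Hermitian matrix has a vector of norm one -/
theorem exists_Qf_eq_one [Finite F] (hφ2 : ∀ x, φ (φ x) = x) (l : F) (hl : φ l ≠ l)
    (T : Matrix (Fin m) (Fin m) F) (hT : adj φ T = T) (hT0 : T ≠ 0) :
    ∃ v, Qf φ T v = 1 := by
  obtain ⟨v, hv⟩ := exists_Qf_ne_zero φ l hl T hT0
  have hfix : φ (Qf φ T v) = Qf φ T v := (Bf_symm φ hφ2 T hT v v).symm
  have hθ : IsUnit (l - φ l) := by
    rw [isUnit_iff_ne_zero]
    intro h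
    exact hl (sub_eq_zero.mp h).symm
  obtain ⟨b, hb⟩ := Cfsg.Agent.Lib.Helper40.NormSurj.norm_surj φ hφ2 l hθ (Qf φ T v)⁻¹
    (isUnit_iff_ne_zero.mpr (inv_ne_zero hv)) (by rw [map_inv₀, hfix])
  refine ⟨b • v, ?_⟩
  rw [Qf_smul, hb, inv_mul_cancel₀ hv]

/-- the transvection `1 + v aᵀ` -/
def tv (v a : Fin m → F) : Matrix (Fin m) (Fin m) F := 1 + vecMulVec v a

theorem tv_mulVec (v a u : Fin m → F) : tv v a *ᵥ u = u + (a ⬝ᵥ u) • v := by
  unfold tv
  rw [Matrix.add_mulVec, Matrix.one_mulVec, Matrix.vecMulVec_mulVec]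
  congr 1
  funext i
  simp [mul_comm]

theorem det_tv (v a : Fin m → F) : (tv v a).det = 1 + a ⬝ᵥ v := by
  unfold tv
  rw [Matrix.vecMulVec_eq (Fin 1), Matrix.det_one_add_replicateCol_mul_replicateRow]

theorem adj_tv (v a : Fin m → F) : adj φ (tv v a) = tv (φ ∘ a) (φ ∘ v) := by
  ext i j
  rw [adj_apply]
  unfold tv
  rw [Matrix.add_apply, Matrix.add_apply, Matrix.one_apply, Matrix.one_apply]
  by_cases h : i = j
  · subst h
    simp [Matrix.vecMulVec_apply, mul_comm]
  · rw [if_neg h, if_neg (fun h' => h h'.symm)]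
    simp [Matrix.vecMulVec_apply, mul_comm]

/-- the transvections fixing `v` give distinct congruent forms -/
theorem tv_conj_mulVec (T : Matrix (Fin m) (Fin m) F) (v a : Fin m → F) (ha : a ⬝ᵥ v = 0)
    (hv : Qf φ T v = 1) :
    (adj φ (tv v a) * T * tv v a) *ᵥ v = T *ᵥ v + φ ∘ a := by
  rw [← Matrix.mulVec_mulVec, ← Matrix.mulVec_mulVec, tv_mulVec, ha, zero_smul, add_zero, adj_tv,
    tv_mulVec]
  have : (φ ∘ v) ⬝ᵥ (T *ᵥ v) = 1 := hv
  rw [this, one_smul]

section sl

/-- vectors related by a matrix of determinant one -/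
def Rel (v w : Fin m → F) : Prop := ∃ A : Matrix (Fin m) (Fin m) F, A.det = 1 ∧ A *ᵥ v = w

theorem Rel.trans {u v w : Fin m → F} (h1 : Rel u v) (h2 : Rel v w) : Rel u w := by
  obtain ⟨A, hA, rfl⟩ := h1
  obtain ⟨B, hB, rfl⟩ := h2
  exact ⟨B * A, by rw [Matrix.det_mul, hA, hB, mul_one], by rw [Matrix.mulVec_mulVec]⟩

theorem rel_of_coord (v w : Fin m → F) (i : Fin m) (hi : v i ≠ 0) (hw : w i = v i) : Rel v w := by
  refine ⟨tv (w - v) ((v i)⁻¹ • Pi.single i 1), ?_, ?_⟩
  · rw [det_tv, smul_dotProduct, single_dotProduct]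
    simp [hw]
  · rw [tv_mulVec, smul_dotProduct, single_dotProduct, one_mul, smul_eq_mul, inv_mul_cancel₀ hi,
      one_smul]
    abel

/-- `SL_m` is transitive on non-zero vectors for `m ≥ 2` -/
theorem sl_transitive (hm : 2 ≤ m) (v w : Fin m → F) (hv : v ≠ 0) (hw : w ≠ 0) : Rel v w := by
  classical
  obtain ⟨i, hi⟩ : ∃ i, v i ≠ 0 := by
    by_contra h
    push Not at h
    exact hv (funext h)
  obtain ⟨j, hj⟩ : ∃ j : Fin m, j ≠ i := by
    by_cases h0 : i = ⟨0, by omega⟩
    · exact ⟨⟨1, by omega⟩, by rw [h0]; intro h; simpa using congrArg Fin.val h⟩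
    · exact ⟨⟨0, by omega⟩, fun h => h0 h.symm⟩
  by_cases hwj : w j = 0
  · obtain ⟨k, hk⟩ : ∃ k, w k ≠ 0 := by
      by_contra h
      push Not at h
      exact hw (funext h)
    have hkj : k ≠ j := by
      rintro rfl
      exact hk hwj
    have s1 : Rel v (Function.update v j 1) :=
      rel_of_coord v _ i hi (by rw [Function.update_of_ne hj.symm])
    have s2 : Rel (Function.update v j 1) (Function.update w j 1) :=
      rel_of_coord _ _ j (by rw [Function.update_self]; exact one_ne_zero)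
        (by rw [Function.update_self, Function.update_self])
    have s3 : Rel (Function.update w j 1) w :=
      rel_of_coord _ _ k (by rw [Function.update_of_ne hkj]; exact hk)
        (by rw [Function.update_of_ne hkj])
    exact (s1.trans s2).trans s3
  · have s1 : Rel v (Function.update v j (w j)) :=
      rel_of_coord v _ i hi (by rw [Function.update_of_ne hj.symm])
    have s2 : Rel (Function.update v j (w j)) w :=
      rel_of_coord _ _ j (by rw [Function.update_self]; exact hwj)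
        (by rw [Function.update_self])
    exact s1.trans s2

/-- `GL_m` is transitive on non-zero vectors -/
theorem gl_transitive (v w : Fin m → F) (hv : v ≠ 0) (hw : w ≠ 0) :
    ∃ A : Matrix (Fin m) (Fin m) F, IsUnit A.det ∧ A *ᵥ v = w := by
  by_cases hm : 2 ≤ m
  · obtain ⟨A, hA, h⟩ := sl_transitive hm v w hv hw
    exact ⟨A, by rw [hA]; exact isUnit_one, h⟩
  · obtain ⟨i, hi⟩ : ∃ i, v i ≠ 0 := by
      by_contra h
      push Not at h
      exact hv (funext h)
    have hsub : ∀ k : Fin m, k = i := by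
      intro k
      apply Fin.ext
      have := k.2
      have := i.2
      omega
    have hwi : w i ≠ 0 := by
      intro h
      apply hw
      funext k
      rw [hsub k, h]
      rfl
    refine ⟨(w i / v i) • (1 : Matrix (Fin m) (Fin m) F), ?_, ?_⟩
    · rw [Matrix.det_smul, Matrix.det_one, mul_one]
      exact isUnit_iff_ne_zero.mpr (pow_ne_zero _ (div_ne_zero hwi hi))
    · rw [Matrix.smul_mulVec, Matrix.one_mulVec]
      funext k
      rw [hsub k, Pi.smul_apply, smul_eq_mul, div_mul_cancel₀ _ hi]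

end sl

section count

variable [Fintype F] [DecidableEq F]

/-- the kernel of a non-zero functional on `F^m` -/
theorem card_ker_dot (v : Fin m → F) (hv : v ≠ 0) :
    (Finset.univ.filter (fun a : Fin m → F => a ⬝ᵥ v = 0)).card = Fintype.card F ^ (m - 1) := by
  classical
  let f : (Fin m → F) →ₗ[F] F :=
    { toFun := fun a => a ⬝ᵥ v
      map_add' := fun a b => add_dotProduct a b v
      map_smul' := fun c a => by simp [smul_dotProduct] }
  obtain ⟨i, hi⟩ : ∃ i, v i ≠ 0 := by
    by_contra h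
    push Not at h
    exact hv (funext h)
  have hsurj : Function.Surjective f := by
    intro y
    refine ⟨Pi.single i (y / v i), ?_⟩
    show Pi.single i (y / v i) ⬝ᵥ v = y
    rw [single_dotProduct, div_mul_cancel₀ _ hi]
  have h1 := LinearMap.finrank_range_add_finrank_ker f
  rw [LinearMap.range_eq_top.mpr hsurj, finrank_top, Module.finrank_self,
    Module.finrank_fin_fun] at h1
  have h2 : Module.finrank F (LinearMap.ker f) = m - 1 := by omega
  have h3 := Module.natCard_eq_pow_finrank (K := F) (V := LinearMap.ker f)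
  rw [h2, Nat.card_eq_fintype_card (α := F)] at h3
  rw [← h3, ← Nat.card_eq_finsetCard]
  apply Nat.card_congr
  refine Equiv.subtypeEquivRight ?_
  intro a
  rw [Finset.mem_filter, LinearMap.mem_ker]
  simp [f]

/-- the number of vectors of norm one for a non-zero Hermitian matrix -/
theorem card_norm_one_le {q : ℕ} (hφ : ∀ x, φ x = x ^ q) (hφ2 : ∀ x, φ (φ x) = x) (l : F)
    (hl : φ l ≠ l) (T : Matrix (Fin m) (Fin m) F) (hT : adj φ T = T) (hT0 : T ≠ 0) :
    (Finset.univ.filter (fun v : Fin m → F => Qf φ T v = 1)).card ≤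
      (q + 1) * Fintype.card F ^ (m - 1) := by
  classical
  obtain ⟨v₀, hv₀⟩ := exists_Qf_eq_one φ hφ2 l hl T hT hT0
  set c : Fin m → F := (φ ∘ v₀) ᵥ* T with hc
  have hB : ∀ v, Bf φ T v₀ v = c ⬝ᵥ v := by
    intro v
    unfold Bf
    rw [Matrix.dotProduct_mulVec]
  have hc1 : c ⬝ᵥ v₀ = 1 := by rw [← hB]; exact hv₀
  have hc0 : c ≠ 0 := by
    intro h
    rw [h, zero_dotProduct] at hc1
    exact zero_ne_one hc1
  set W : Finset (Fin m → F) := Finset.univ.filter (fun a : Fin m → F => a ⬝ᵥ c = 0) with hW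
  have hWc : W.card = Fintype.card F ^ (m - 1) := card_ker_dot c hc0
  set R : (Fin m → F) → Finset F := fun w =>
    Finset.univ.filter (fun a : F => a ^ (q + 1) = 1 - Qf φ T w) with hR
  have hRc : ∀ w, (R w).card ≤ q + 1 := by
    intro w
    have hsub : R w ⊆ (Polynomial.nthRoots (q + 1) (1 - Qf φ T w)).toFinset := by
      intro a ha
      rw [hR, Finset.mem_filter] at ha
      rw [Multiset.mem_toFinset, Polynomial.mem_nthRoots (Nat.succ_pos q)]
      exact ha.2
    exact (Finset.card_le_card hsub).trans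
      ((Multiset.toFinset_card_le _).trans (Polynomial.card_nthRoots _ _))
  have hcard : (Finset.univ.filter (fun v : Fin m → F => Qf φ T v = 1)).card ≤
      (W.sigma R).card := by
    apply Finset.card_le_card_of_injOn
      (fun v => (⟨v - (c ⬝ᵥ v) • v₀, c ⬝ᵥ v⟩ : Σ _ : Fin m → F, F))
    · intro v hv
      have hv1 : Qf φ T v = 1 := by
        have := hv
        rw [Finset.coe_filter] at this
        exact this.2
      rw [Finset.mem_coe, Finset.mem_sigma]
      have hw0 : c ⬝ᵥ (v - (c ⬝ᵥ v) • v₀) = 0 := by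
        rw [dotProduct_sub, dotProduct_smul, hc1, smul_eq_mul, mul_one, sub_self]
      constructor
      · rw [hW, Finset.mem_filter]
        exact ⟨Finset.mem_univ _, by rw [dotProduct_comm]; exact hw0⟩
      · rw [hR, Finset.mem_filter]
        refine ⟨Finset.mem_univ _, ?_⟩
        set a := c ⬝ᵥ v with ha
        set w := v - a • v₀ with hw
        have hv' : v = a • v₀ + w := by rw [hw]; abel
        have e1 : Bf φ T v₀ w = 0 := by rw [hB]; exact hw0
        have e2 : Bf φ T w v₀ = 0 := by rw [Bf_symm φ hφ2 T hT v₀ w, e1, map_zero]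
        have e3 : Qf φ T v = a * φ a + Qf φ T w := by
          rw [hv', Qf_add, Qf_smul, Bf_smul_left, Bf_smul_right, e1, e2, hv₀]
          ring
        rw [hv1] at e3
        rw [pow_succ, ← hφ, mul_comm]
        linear_combination -e3
    · intro v _ v' _ h
      simp only [Sigma.mk.injEq, heq_eq_eq] at h
      obtain ⟨h1, h2⟩ := h
      rw [h2] at h1
      exact sub_left_injective h1
  rw [Finset.card_sigma] at hcard
  calc (Finset.univ.filter (fun v : Fin m → F => Qf φ T v = 1)).card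
      ≤ ∑ w ∈ W, (R w).card := hcard
    _ ≤ ∑ _w ∈ W, (q + 1) := Finset.sum_le_sum (fun w _ => hRc w)
    _ = (q + 1) * Fintype.card F ^ (m - 1) := by
        rw [Finset.sum_const, smul_eq_mul, hWc, mul_comm]

/-- a non-empty set of non-zero Hermitian matrices stable under congruence by a family of matrices
that is transitive on non-zero vectors and contains the transvections has at least
`(q^{2m} - 1)/(q + 1)` elements -/
theorem card_orbit_ge {q : ℕ} (hφ : ∀ x, φ x = x ^ q) (hφ2 : ∀ x, φ (φ x) = x)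
    (hF : Fintype.card F = q ^ 2) (l : F) (hl : φ l ≠ l)
    (P : Matrix (Fin m) (Fin m) F → Prop)
    (htrans : ∀ v w : Fin m → F, v ≠ 0 → w ≠ 0 → ∃ A, P A ∧ A *ᵥ v = w)
    (htv : ∀ v a : Fin m → F, a ⬝ᵥ v = 0 → P (tv v a))
    (O : Finset (Matrix (Fin m) (Fin m) F)) (hne : O.Nonempty)
    (hH : ∀ T ∈ O, adj φ T = T ∧ T ≠ 0)
    (hcl : ∀ T ∈ O, ∀ A, P A → adj φ A * T * A ∈ O) :
    q ^ (2 * m) - 1 ≤ (q + 1) * O.card := by
  classical
  obtain ⟨T₀, hT₀⟩ := hne
  obtain ⟨v₀, hv₀⟩ := exists_Qf_eq_one φ hφ2 l hl T₀ (hH T₀ hT₀).1 (hH T₀ hT₀).2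
  have hv₀0 : v₀ ≠ 0 := by
    rintro rfl
    rw [Qf_zero] at hv₀
    exact zero_ne_one hv₀
  have hex : ∀ v : Fin m → F, v ≠ 0 → ∃ T ∈ O, Qf φ T v = 1 := by
    intro v hv
    obtain ⟨A, hA, hAv⟩ := htrans v v₀ hv hv₀0
    exact ⟨adj φ A * T₀ * A, hcl T₀ hT₀ A hA, by rw [Qf_conj, hAv, hv₀]⟩
  let Tv : (Fin m → F) → Matrix (Fin m) (Fin m) F := fun v =>
    if hv : v ≠ 0 then (hex v hv).choose else 0
  have hTv : ∀ v, v ≠ 0 → Tv v ∈ O ∧ Qf φ (Tv v) v = 1 := by
    intro v hv
    have := (hex v hv).choose_spec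
    simp only [Tv, dif_pos hv]
    exact this
  set X : Matrix (Fin m) (Fin m) F → Finset (Fin m → F) := fun T =>
    Finset.univ.filter (fun v : Fin m → F => Qf φ T v = 1) with hX
  set V' : Finset (Fin m → F) := Finset.univ.filter (fun v : Fin m → F => v ≠ 0) with hV'
  set K : (Fin m → F) → Finset (Fin m → F) := fun v =>
    Finset.univ.filter (fun a : Fin m → F => a ⬝ᵥ v = 0) with hK
  have hle : (V'.sigma K).card ≤ (O.sigma X).card := by
    apply Finset.card_le_card_of_injOn
      (fun p => (⟨adj φ (tv p.1 p.2) * Tv p.1 * tv p.1 p.2, p.1⟩ :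
        Σ _ : Matrix (Fin m) (Fin m) F, Fin m → F))
    · intro p hp
      rw [Finset.mem_coe, Finset.mem_sigma] at hp
      obtain ⟨hp1, hp2⟩ := hp
      rw [hV', Finset.mem_filter] at hp1
      rw [hK, Finset.mem_filter] at hp2
      have hp1' : p.1 ≠ 0 := hp1.2
      have hp2' : p.2 ⬝ᵥ p.1 = 0 := hp2.2
      rw [Finset.mem_coe, Finset.mem_sigma]
      constructor
      · exact hcl _ (hTv p.1 hp1').1 _ (htv p.1 p.2 hp2')
      · rw [hX, Finset.mem_filter]
        refine ⟨Finset.mem_univ _, ?_⟩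
        show Qf φ (adj φ (tv p.1 p.2) * Tv p.1 * tv p.1 p.2) p.1 = 1
        rw [Qf_conj, tv_mulVec, hp2', zero_smul, add_zero]
        exact (hTv p.1 hp1').2
    · intro p hp p' hp' h
      rw [Finset.mem_coe, Finset.mem_sigma] at hp hp'
      obtain ⟨hp1, hp2⟩ := hp
      obtain ⟨hp1', hp2'⟩ := hp'
      rw [hV', Finset.mem_filter] at hp1 hp1'
      rw [hK, Finset.mem_filter] at hp2 hp2'
      simp only [Sigma.mk.injEq, heq_eq_eq] at h
      obtain ⟨h1, h2⟩ := h
      obtain ⟨v, a⟩ := p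
      obtain ⟨v', a'⟩ := p'
      simp only at h1 h2 hp1 hp2 hp1' hp2'
      subst h2
      have e1 := tv_conj_mulVec φ (Tv v) v a hp2.2 (hTv v hp1.2).2
      have e2 := tv_conj_mulVec φ (Tv v) v a' hp2'.2 (hTv v hp1.2).2
      rw [h1, e2] at e1
      have e3 : φ ∘ a' = φ ∘ a := add_left_cancel e1
      have e4 : a' = a := by
        funext i
        have := congrFun e3 i
        exact φ.injective this
      rw [e4]
  rw [Finset.card_sigma, Finset.card_sigma] at hle
  have hV'c : V'.card = Fintype.card F ^ m - 1 := by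
    rw [hV', Finset.filter_ne' Finset.univ (0 : Fin m → F),
      Finset.card_erase_of_mem (Finset.mem_univ _), Finset.card_univ, Fintype.card_fun,
      Fintype.card_fin]
  have h1 : ∑ v ∈ V', (K v).card = (Fintype.card F ^ m - 1) * Fintype.card F ^ (m - 1) := by
    rw [← hV'c, ← smul_eq_mul, ← Finset.sum_const]
    apply Finset.sum_congr rfl
    intro v hv
    rw [hV', Finset.mem_filter] at hv
    exact card_ker_dot v hv.2
  have h2 : ∑ T ∈ O, (X T).card ≤ O.card * ((q + 1) * Fintype.card F ^ (m - 1)) := by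
    rw [← smul_eq_mul, ← Finset.sum_const]
    apply Finset.sum_le_sum
    intro T hT
    exact card_norm_one_le φ hφ hφ2 l hl T (hH T hT).1 (hH T hT).2
  rw [h1] at hle
  have h3 := hle.trans h2
  have hpos : 0 < Fintype.card F ^ (m - 1) := pow_pos Fintype.card_pos _
  have h4 : (Fintype.card F ^ m - 1) * Fintype.card F ^ (m - 1) ≤
      ((q + 1) * O.card) * Fintype.card F ^ (m - 1) := by
    calc _ ≤ O.card * ((q + 1) * Fintype.card F ^ (m - 1)) := h3
      _ = _ := by ring
  have h5 := Nat.le_of_mul_le_mul_right h4 hpos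
  rw [hF, ← pow_mul] at h5
  exact h5

end count

end Cfsg.Agent.Lib.Helper39.LSHerm
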