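-- Orthogonality of the multiplicative characters of a finite field, summed over the characters.
import Mathlib

set_option autoImplicit false
set_option linter.unusedSectionVars false
set_option linter.unusedVariables false
set_option linter.style.haveILetI false

namespace Cfsg.Agent.Lib.Helper39.MulCharOrth

open scoped ComplexConjugate

variable {F : Type*} [Field F] [Fintype F]

theorem card_mulChar [Fintype (MulChar F ℂ)] [DecidableEq F] :
    Fintype.card (MulChar F ℂ) = Fintype.card Fˣ := by
  rw [← Nat.card_eq_fintype_card, ← Nat.card_eq_fintype_card]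
  exact MulChar.card_eq_card_units_of_hasEnoughRootsOfUnity F ℂ

/-- The sum of the values of all multiplicative characters at a unit. -/
theorem sum_mulChar_apply [Fintype (MulChar F ℂ)] [DecidableEq F] (c : Fˣ) :
    ∑ α : MulChar F ℂ, α (c : F) = if c = 1 then (Fintype.card Fˣ : ℂ) else 0 := by
  by_cases hc : c = 1
  · subst hc
    rw [if_pos rfl]
    simp only [Units.val_one, map_one, Finset.sum_const, Finset.card_univ, nsmul_eq_mul, mul_one]
    rw [card_mulChar]
  · rw [if_neg hc]
    have hc' : (c : F) ≠ 1 := fun h => hc (Units.ext h)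
    obtain ⟨ψ, hψ⟩ := MulChar.exists_apply_ne_one_of_hasEnoughRootsOfUnity F ℂ hc'
    have h1 : ∑ α : MulChar F ℂ, (ψ * α) (c : F) = ∑ α : MulChar F ℂ, α (c : F) :=
      Fintype.sum_bijective (fun α => ψ * α) (Group.mulLeft_bijective ψ) _ _ (fun _ => rfl)
    simp_rw [MulChar.mul_apply] at h1
    rw [← Finset.mul_sum] at h1
    exact eq_zero_of_mul_eq_self_left hψ h1

/-- Orthogonality of the multiplicative characters at two units. -/
theorem sum_mulChar_mul_conj [Fintype (MulChar F ℂ)] [DecidableEq F] (a a' : Fˣ) :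
    ∑ α : MulChar F ℂ, α (a : F) * conj (α (a' : F)) =
      if a = a' then (Fintype.card Fˣ : ℂ) else 0 := by
  have h1 : ∀ α : MulChar F ℂ, α (a : F) * conj (α (a' : F)) = α ((a * a'⁻¹ : Fˣ) : F) := by
    intro α
    have h2 : conj (α (a' : F)) = α ((a'⁻¹ : Fˣ) : F) := by
      have h := MulChar.star_apply' α (a' : F)
      rw [MulChar.inv_apply'] at h
      rw [Units.val_inv_eq_inv_val]
      exact h
    rw [h2, ← map_mul, Units.val_mul]
  simp_rw [h1]
  rw [sum_mulChar_apply]
  have : a * a'⁻¹ = 1 ↔ a = a' := mul_inv_eq_one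
  simp only [this]

theorem mulChar_mul_conj_self (α : MulChar F ℂ) (a : Fˣ) : α (a : F) * conj (α (a : F)) = 1 := by
  have h2 : conj (α (a : F)) = α ((a⁻¹ : Fˣ) : F) := by
    have h := MulChar.star_apply' α (a : F)
    rw [MulChar.inv_apply'] at h
    rw [Units.val_inv_eq_inv_val]
    exact h
  rw [h2, ← map_mul, ← Units.val_mul, mul_inv_cancel, Units.val_one, map_one]

theorem norm_mulChar (α : MulChar F ℂ) (a : Fˣ) : ‖α (a : F)‖ = 1 := by
  have h := mulChar_mul_conj_self α a
  rw [Complex.mul_conj] at h
  have h2 : Complex.normSq (α (a : F)) = 1 := by exact_mod_cast h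
  rw [Complex.normSq_eq_norm_sq] at h2
  have h3 : 0 ≤ ‖α (a : F)‖ := norm_nonneg _
  nlinarith

end Cfsg.Agent.Lib.Helper39.MulCharOrth
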