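import Mathlib
import Cfsg.Agent.Lib.Helper9.S63Stmt

/-!
# S1363 / CASEB (helper39, second seat)

Strong induction on the order of the subgroups `1 ≠ U' ≤ U`.
-/

set_option autoImplicit false

namespace Cfsg.Agent.Lib.Helper39.S63CASEB

open Cfsg.Agent.Lib.Helper9.S63Stmt

universe u

theorem main (hCyc : UCyc.{u}) (hCent : CentU.{u}) (hNotZ : NotZ.{u}) (hTS : TildeSplit.{u})
    (hPow : Pow.{u}) (h1 : Step1.{u}) (h2 : Step2.{u}) : CaseB.{u} := by
  intro G _ _ hG M K U hM hKU hK hU hB
  have hUcyc : IsCyclic U := hCyc hG M K U hM hKU hK hB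
  have hUcent : ∀ x ∈ U, x ≠ 1 → M ⊓ Subgroup.centralizer ({x} : Set G) = U :=
    hCent hG M K U hM hKU hK hB
  have key : ∀ n : ℕ, ∀ U' : Subgroup G, U' ≤ U → U' ≠ ⊥ → Nat.card U' = n →
      ¬ Subgroup.normalizer (U' : Set G) ≤ M := by
    intro n
    induction n using Nat.strong_induction_on with
    | _ n ih =>
      intro U' hU'U hU'ne hcard
      -- `U'` is cyclic, with generator `u'`
      haveI : IsCyclic U := hUcyc
      have hU'cyc : IsCyclic U' := by
        have h := Subgroup.isCyclic (U'.subgroupOf U)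
        exact (Subgroup.subgroupOfEquivOfLe hU'U).isCyclic.1 h
      obtain ⟨⟨u', hu'mem⟩, hgen⟩ := hU'cyc.exists_generator
      have hzp : Subgroup.zpowers u' = U' := by
        apply le_antisymm
        · rw [Subgroup.zpowers_le]
          exact hu'mem
        · intro y hy
          have hy' := hgen ⟨y, hy⟩
          rw [Subgroup.mem_zpowers_iff] at hy' ⊢
          obtain ⟨k, hk⟩ := hy'
          exact ⟨k, congrArg Subtype.val hk⟩
      have hu'1 : u' ≠ 1 := by
        intro h
        apply hU'ne
        rw [← hzp, h, Subgroup.zpowers_one_eq_bot]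
      obtain ⟨N₀, hN₀, hu'N₀⟩ := hNotZ hG M K U hM hKU hK u' (hU'U hu'mem) hu'1
      obtain ⟨N, hN, x, ρ, hxσ, hx1, hρR, hcomm, hcop, hu'eq⟩ := hTS hG N₀ hN₀ u' hu'N₀
      obtain ⟨hxz, hρz⟩ := hPow x ρ hcomm hcop
      rw [← hu'eq, hzp] at hxz hρz
      by_cases hρ1 : ρ = 1
      · -- `u' = x` lies in `N_σ`
        have hu'x : u' = x := by rw [hu'eq, hρ1, mul_one]
        have hU'σ : U' ≤ Cfsg.sigmaCore N := by
          rw [← hzp, Subgroup.zpowers_le, hu'x]
          exact hxσ
        exact h1 hG M K U hM hKU hK hUcyc hUcent N hN U' hU'U hU'ne hU'σ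
      · -- `⟨x⟩` is a smaller nontrivial subgroup
        have hxne : Subgroup.zpowers x ≠ ⊥ := by
          intro h
          exact hx1 (Subgroup.zpowers_eq_bot.1 h)
        have hxU' : Subgroup.zpowers x ≤ U' := by
          rw [Subgroup.zpowers_le]
          exact hxz
        have hord : orderOf u' = orderOf x * orderOf ρ := by
          rw [hu'eq]
          exact (Commute.orderOf_mul_eq_mul_orderOf_of_coprime hcomm hcop)
        have hρord : 1 < orderOf ρ := by
          have hpos : 0 < orderOf ρ := orderOf_pos ρ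
          have hne : orderOf ρ ≠ 1 := by
            intro h
            exact hρ1 (orderOf_eq_one_iff.1 h)
          omega
        have hxpos : 0 < orderOf x := orderOf_pos x
        have hlt : Nat.card (Subgroup.zpowers x) < n := by
          rw [← hcard, ← hzp, Nat.card_zpowers, Nat.card_zpowers, hord]
          nlinarith
        have hIH := ih (Nat.card (Subgroup.zpowers x)) hlt (Subgroup.zpowers x)
          (hxU'.trans hU'U) hxne rfl
        have hstep := h2 hG M K U hM hKU hK hUcyc hUcent N hN x ρ hxσ hx1 hρR hρ1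
          (hU'U hxz) (hU'U hρz) hIH
        have hsup : Subgroup.zpowers x ⊔ Subgroup.zpowers ρ = U' := by
          apply le_antisymm
          · apply sup_le hxU'
            rw [Subgroup.zpowers_le]
            exact hρz
          · rw [← hzp, Subgroup.zpowers_le, hu'eq]
            exact Subgroup.mul_mem_sup (Subgroup.mem_zpowers x) (Subgroup.mem_zpowers ρ)
        rw [hsup] at hstep
        exact hstep
  exact key _ U le_rfl hU rfl

end Cfsg.Agent.Lib.Helper39.S63CASEB
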