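import Mathlib
import Cfsg.Agent.Lib.Helper40.SFStmt

set_option autoImplicit false

/-!
# Piece HUA of S5664

Characteristic two, `[L : F] ≥ 3`, `S` an `F`-hyperplane of `L` containing `1`: some nonzero
`s ∈ S` has `s⁻¹ ∉ S`.
-/

namespace Cfsg.Agent.Lib.Helper39.SFHUA

universe u

/-- Hua-type step: an inverse-closed subspace containing `a, b` contains `a ^ 2 * b`. -/
theorem sq_mul_mem {F L : Type u} [Field F] [Field L] [Algebra F L] (S : Submodule F L)
    (hinv : ∀ s ∈ S, s ≠ 0 → s⁻¹ ∈ S) (a b : L) (ha : a ∈ S) (hb : b ∈ S) :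
    a ^ 2 * b ∈ S := by
  by_cases ha0 : a = 0
  · subst ha0
    simp
  by_cases hb0 : b = 0
  · subst hb0
    simp
  by_cases hab : a * b = 1
  · have : a ^ 2 * b = a := by
      rw [pow_two, mul_assoc, hab, mul_one]
    rw [this]
    exact ha
  · have h1 : b⁻¹ - a ≠ 0 := by
      intro h
      apply hab
      have h2 : b⁻¹ = a := sub_eq_zero.mp h
      rw [← h2, inv_mul_cancel₀ hb0]
    have h2 : (b⁻¹ - a)⁻¹ ∈ S := hinv _ (S.sub_mem (hinv b hb hb0) ha) h1
    have h3 : a⁻¹ + (b⁻¹ - a)⁻¹ ∈ S := S.add_mem (hinv a ha ha0) h2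
    have h4 : (1 : L) - a * b ≠ 0 := fun h => hab (sub_eq_zero.mp h).symm
    have h5 : a⁻¹ + (b⁻¹ - a)⁻¹ = (a - a ^ 2 * b)⁻¹ := by
      have h6 : a - a ^ 2 * b ≠ 0 := by
        have : a - a ^ 2 * b = a * (1 - a * b) := by ring
        rw [this]
        exact mul_ne_zero ha0 h4
      field_simp
      ring
    have h6 : a - a ^ 2 * b ≠ 0 := by
      have : a - a ^ 2 * b = a * (1 - a * b) := by ring
      rw [this]
      exact mul_ne_zero ha0 h4
    have h7 : (a - a ^ 2 * b)⁻¹ ∈ S := h5 ▸ h3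
    have h8 : a - a ^ 2 * b ∈ S := by
      have := hinv _ h7 (inv_ne_zero h6)
      rwa [inv_inv] at this
    have h9 : a ^ 2 * b = a - (a - a ^ 2 * b) := by ring
    rw [h9]
    exact S.sub_mem ha h8

theorem main : Cfsg.Agent.Lib.Helper40.SFStmt.Hua.{u} := by
  intro F L _ _ _ _ h2 h3 S h1 hS
  by_contra hcon
  push Not at hcon
  have hinv : ∀ s ∈ S, s ≠ 0 → s⁻¹ ∈ S := hcon
  have h2L : (2 : L) = 0 := by
    have h := congrArg (algebraMap F L) h2
    rw [map_ofNat, map_zero] at h
    exact h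
  -- squaring is a bijection of `S`
  have hsqmem : ∀ a ∈ S, a ^ 2 ∈ S := by
    intro a ha
    have := sq_mul_mem S hinv a 1 ha h1
    simpa using this
  let sq : S → S := fun a => ⟨(a : L) ^ 2, hsqmem a a.2⟩
  have hsqinj : Function.Injective sq := by
    intro a b hab
    have h : (a : L) ^ 2 = (b : L) ^ 2 := congrArg Subtype.val hab
    have h' : ((a : L) - b) ^ 2 = 0 := by
      have : ((a : L) - b) ^ 2 = (a : L) ^ 2 + (b : L) ^ 2 - 2 * (a * b) := by ring
      rw [this, h2L, h]
      have : (b : L) ^ 2 + (b : L) ^ 2 = 2 * (b : L) ^ 2 := by ring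
      rw [this, h2L]
      ring
    have h'' : (a : L) - b = 0 := by
      exact pow_eq_zero_iff (two_ne_zero) |>.mp h'
    exact Subtype.ext (sub_eq_zero.mp h'')
  have hsqsurj : Function.Surjective sq := Finite.injective_iff_surjective.mp hsqinj
  have hmul : ∀ a ∈ S, ∀ b ∈ S, a * b ∈ S := by
    intro a ha b hb
    obtain ⟨c, hc⟩ := hsqsurj ⟨a, ha⟩
    have hc' : (c : L) ^ 2 = a := congrArg Subtype.val hc
    rw [← hc']
    exact sq_mul_mem S hinv c b c.2 hb
  -- an element outside `S`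
  have hfin : Module.Finite F L := Module.Finite.of_finite
  have hne : S ≠ ⊤ := by
    intro h
    rw [h, finrank_top] at hS
    omega
  obtain ⟨a, ha⟩ : ∃ a : L, a ∉ S := by
    by_contra hall
    push Not at hall
    exact hne (eq_top_iff.mpr fun x _ => hall x)
  -- `S × S → L`, `(s, t) ↦ s + a * t` is injective
  let φ : (S × S) →ₗ[F] L :=
    (S.subtype).coprod ((LinearMap.mulLeft F a).comp S.subtype)
  have hφ : ∀ p : S × S, φ p = (p.1 : L) + a * (p.2 : L) := by
    intro p
    simp [φ]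
  have hφinj : Function.Injective φ := by
    rw [← LinearMap.ker_eq_bot, LinearMap.ker_eq_bot']
    intro p hp
    rw [hφ] at hp
    have ht : (p.2 : L) = 0 := by
      by_contra ht
      apply ha
      have h4 : a = (-(p.1 : L)) * (p.2 : L)⁻¹ := by
        field_simp
        linear_combination hp
      rw [h4]
      exact hmul _ (S.neg_mem p.1.2) _ (hinv _ p.2.2 ht)
    have hs : (p.1 : L) = 0 := by
      rw [ht, mul_zero, add_zero] at hp
      exact hp
    exact Prod.ext (Subtype.ext hs) (Subtype.ext ht)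
  have hle := LinearMap.finrank_le_finrank_of_injective hφinj
  rw [Module.finrank_prod] at hle
  omega

end Cfsg.Agent.Lib.Helper39.SFHUA
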