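-- Transvection elements `1 + u φᵀ` of `SL_N(F)`: relations, conjugation, and the linear algebra
-- needed to choose vectors with prescribed dot products; parametrisation of additive characters.
import Mathlib
import Cfsg.Agent.Lib.Helper39.LSHerm

set_option autoImplicit false

namespace Cfsg.Agent.Lib.Helper39.SLMinTv

open Matrix Cfsg.Agent.Lib.Helper39.LSHerm

variable {F : Type*} [Field F] {N : ℕ}

/-- a matrix of determinant one as an element of `SL_N` -/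
def mkSL (M : Matrix (Fin N) (Fin N) F) (h : M.det = 1) : Matrix.SpecialLinearGroup (Fin N) F :=
  ⟨M, h⟩

theorem mkSL_coe (M : Matrix (Fin N) (Fin N) F) (h : M.det = 1) :
    ((mkSL M h : Matrix.SpecialLinearGroup (Fin N) F) : Matrix (Fin N) (Fin N) F) = M := rfl

open Classical in
/-- the transvection `1 + u φᵀ` as an element of `SL_N` (the identity when `φ u ≠ 0`) -/
noncomputable def tS (u φ : Fin N → F) : Matrix.SpecialLinearGroup (Fin N) F :=
  if h : φ ⬝ᵥ u = 0 then mkSL (tv u φ) (by rw [det_tv, h, add_zero]) else 1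

theorem tS_coe (u φ : Fin N → F) (h : φ ⬝ᵥ u = 0) :
    ((tS u φ : Matrix.SpecialLinearGroup (Fin N) F) : Matrix (Fin N) (Fin N) F) = tv u φ := by
  unfold tS
  rw [dif_pos h]
  rfl

theorem tv_mul (u φ u' φ' : Fin N → F) :
    tv u φ * tv u' φ' = 1 + vecMulVec u φ + vecMulVec u' φ' + (φ ⬝ᵥ u') • vecMulVec u φ' := by
  unfold tv
  rw [add_mul, one_mul, mul_add, mul_one, Matrix.vecMulVec_mul_vecMulVec, Matrix.vecMulVec_smul]
  abel

theorem vecMul_tv (w v a : Fin N → F) : w ᵥ* tv v a = w + (w ⬝ᵥ v) • a := by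
  unfold tv
  rw [Matrix.vecMul_add, Matrix.vecMul_one, Matrix.vecMul_vecMulVec]

theorem tS_zero_left (φ : Fin N → F) : tS (0 : Fin N → F) φ = 1 := by
  apply Subtype.ext
  rw [tS_coe _ _ (dotProduct_zero φ)]
  unfold tv
  rw [Matrix.zero_vecMulVec, add_zero]
  rfl

theorem tS_zero_right (u : Fin N → F) : tS u (0 : Fin N → F) = 1 := by
  apply Subtype.ext
  rw [tS_coe _ _ (zero_dotProduct u)]
  unfold tv
  rw [Matrix.vecMulVec_zero, add_zero]
  rfl

/-- same covector: the elements multiply by adding the vectors -/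
theorem tS_mul_left (u u' φ : Fin N → F) (h : φ ⬝ᵥ u = 0) (h' : φ ⬝ᵥ u' = 0) :
    tS u φ * tS u' φ = tS (u + u') φ := by
  apply Subtype.ext
  rw [Matrix.SpecialLinearGroup.coe_mul, tS_coe _ _ h, tS_coe _ _ h',
    tS_coe _ _ (by rw [dotProduct_add, h, h', add_zero]), tv_mul, h', zero_smul, add_zero]
  unfold tv
  rw [Matrix.add_vecMulVec, add_assoc]

/-- same vector: the elements multiply by adding the covectors -/
theorem tS_mul_right (a w w' : Fin N → F) (h : w ⬝ᵥ a = 0) (h' : w' ⬝ᵥ a = 0) :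
    tS a w * tS a w' = tS a (w + w') := by
  apply Subtype.ext
  rw [Matrix.SpecialLinearGroup.coe_mul, tS_coe _ _ h, tS_coe _ _ h',
    tS_coe _ _ (by rw [add_dotProduct, h, h', add_zero]), tv_mul, h, zero_smul, add_zero]
  unfold tv
  rw [Matrix.vecMulVec_add, add_assoc]

theorem tS_smul (c : F) (a φ : Fin N → F) (h : φ ⬝ᵥ a = 0) : tS (c • a) φ = tS a (c • φ) := by
  apply Subtype.ext
  rw [tS_coe _ _ (by rw [dotProduct_smul, h, smul_zero]),
    tS_coe _ _ (by rw [smul_dotProduct, h, smul_zero])]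
  unfold tv
  rw [Matrix.smul_vecMulVec, Matrix.vecMulVec_smul]

/-- the Heisenberg relation -/
theorem tS_heis (u φ a w : Fin N → F) (hφu : φ ⬝ᵥ u = 0) (hwa : w ⬝ᵥ a = 0) (hφa : φ ⬝ᵥ a = 0) :
    tS a w * tS u φ = tS u φ * tS a w * tS a ((w ⬝ᵥ u) • φ) := by
  apply Subtype.ext
  rw [Matrix.SpecialLinearGroup.coe_mul, Matrix.SpecialLinearGroup.coe_mul,
    Matrix.SpecialLinearGroup.coe_mul, tS_coe _ _ hφu, tS_coe _ _ hwa,
    tS_coe _ _ (by rw [smul_dotProduct, hφa, smul_zero]), tv_mul, tv_mul, hφa, zero_smul, add_zero]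
  unfold tv
  rw [mul_add, mul_one, add_mul, add_mul, one_mul, Matrix.vecMulVec_mul_vecMulVec,
    Matrix.vecMulVec_mul_vecMulVec, hφa, hwa, zero_smul, Matrix.vecMulVec_zero, Matrix.vecMulVec_zero,
    Matrix.vecMulVec_smul]
  abel

/-- conjugating an element with fixed covector -/
theorem tS_conj_left (g : Matrix.SpecialLinearGroup (Fin N) F) (u φ φ' : Fin N → F)
    (hg : φ' ᵥ* (g : Matrix (Fin N) (Fin N) F) = φ) (h : φ ⬝ᵥ u = 0) :
    g * tS u φ = tS ((g : Matrix (Fin N) (Fin N) F) *ᵥ u) φ' * g := by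
  have h' : φ' ⬝ᵥ ((g : Matrix (Fin N) (Fin N) F) *ᵥ u) = 0 := by rw [Matrix.dotProduct_mulVec, hg, h]
  apply Subtype.ext
  rw [Matrix.SpecialLinearGroup.coe_mul, Matrix.SpecialLinearGroup.coe_mul, tS_coe _ _ h,
    tS_coe _ _ h']
  unfold tv
  rw [mul_add, mul_one, add_mul, one_mul, Matrix.mul_vecMulVec, Matrix.vecMulVec_mul, hg]

/-- conjugating an element with fixed vector -/
theorem tS_conj_right (g : Matrix.SpecialLinearGroup (Fin N) F) (a w : Fin N → F)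
    (h : w ⬝ᵥ ((g : Matrix (Fin N) (Fin N) F) *ᵥ a) = 0) :
    g * tS a (w ᵥ* (g : Matrix (Fin N) (Fin N) F)) = tS ((g : Matrix (Fin N) (Fin N) F) *ᵥ a) w * g := by
  have h' : (w ᵥ* (g : Matrix (Fin N) (Fin N) F)) ⬝ᵥ a = 0 := by rw [← Matrix.dotProduct_mulVec, h]
  apply Subtype.ext
  rw [Matrix.SpecialLinearGroup.coe_mul, Matrix.SpecialLinearGroup.coe_mul, tS_coe _ _ h,
    tS_coe _ _ h']
  unfold tv
  rw [mul_add, mul_one, add_mul, one_mul, Matrix.mul_vecMulVec, Matrix.vecMulVec_mul]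

theorem inv_mulVec (g : Matrix.SpecialLinearGroup (Fin N) F) (u : Fin N → F) :
    (g : Matrix (Fin N) (Fin N) F) *ᵥ ((↑(g⁻¹) : Matrix (Fin N) (Fin N) F) *ᵥ u) = u := by
  rw [Matrix.mulVec_mulVec, ← Matrix.SpecialLinearGroup.coe_mul, mul_inv_cancel,
    Matrix.SpecialLinearGroup.coe_one, Matrix.one_mulVec]

theorem vecMul_inv (g : Matrix.SpecialLinearGroup (Fin N) F) (φ : Fin N → F) (κ : F) (hκ : κ ≠ 0)
    (h : φ ᵥ* (g : Matrix (Fin N) (Fin N) F) = κ • φ) :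
    φ ᵥ* (↑(g⁻¹) : Matrix (Fin N) (Fin N) F) = κ⁻¹ • φ := by
  have h1 : φ = κ • (φ ᵥ* (↑(g⁻¹) : Matrix (Fin N) (Fin N) F)) := by
    have h2 : (φ ᵥ* (g : Matrix (Fin N) (Fin N) F)) ᵥ* (↑(g⁻¹) : Matrix (Fin N) (Fin N) F) =
        (κ • φ) ᵥ* (↑(g⁻¹) : Matrix (Fin N) (Fin N) F) := by rw [h]
    rw [Matrix.vecMul_vecMul, ← Matrix.SpecialLinearGroup.coe_mul, mul_inv_cancel,
      Matrix.SpecialLinearGroup.coe_one, Matrix.vecMul_one, Matrix.smul_vecMul] at h2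
    exact h2
  calc φ ᵥ* (↑(g⁻¹) : Matrix (Fin N) (Fin N) F)
      = κ⁻¹ • (κ • (φ ᵥ* (↑(g⁻¹) : Matrix (Fin N) (Fin N) F))) := by
        rw [smul_smul, inv_mul_cancel₀ hκ, one_smul]
    _ = κ⁻¹ • φ := by rw [← h1]


section exist

theorem exists_coord_ne (a : Fin N → F) (ha : a ≠ 0) : ∃ i, a i ≠ 0 := by
  by_contra h
  push Not at h
  exact ha (funext h)

theorem exists_dual (a : Fin N → F) (ha : a ≠ 0) : ∃ a' : Fin N → F, a' ⬝ᵥ a = 1 := by
  classical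
  obtain ⟨i, hi⟩ := exists_coord_ne a ha
  refine ⟨(a i)⁻¹ • Pi.single i 1, ?_⟩
  rw [smul_dotProduct, single_dotProduct, one_mul, smul_eq_mul, inv_mul_cancel₀ hi]

/-- if `y` is not a multiple of `a` then some covector kills `a` but not `y` -/
theorem exists_perp_ne (a y : Fin N → F) (ha : a ≠ 0) (hy : ∀ c : F, y ≠ c • a) :
    ∃ r : Fin N → F, r ⬝ᵥ a = 0 ∧ r ⬝ᵥ y ≠ 0 := by
  classical
  obtain ⟨i, hi⟩ := exists_coord_ne a ha
  by_contra hcon
  push Not at hcon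
  apply hy (y i / a i)
  funext j
  have h1 : (Pi.single j 1 - (a j / a i) • Pi.single i 1 : Fin N → F) ⬝ᵥ a = 0 := by
    rw [sub_dotProduct, smul_dotProduct, single_dotProduct, single_dotProduct, one_mul, one_mul,
      smul_eq_mul, div_mul_cancel₀ _ hi, sub_self]
  have h2 := hcon _ h1
  rw [sub_dotProduct, smul_dotProduct, single_dotProduct, single_dotProduct, one_mul, one_mul,
    smul_eq_mul] at h2
  rw [Pi.smul_apply, smul_eq_mul]
  field_simp
  field_simp at h2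
  linear_combination h2

/-- a common zero of fewer than `N` covectors -/
theorem exists_ker (k : ℕ) (hk : k < N) (c : Fin k → Fin N → F) :
    ∃ p : Fin N → F, p ≠ 0 ∧ ∀ i, c i ⬝ᵥ p = 0 := by
  have h := LinearMap.ker_ne_bot_of_finrank_lt (f := (Matrix.of c).mulVecLin) (by
    rw [Module.finrank_fin_fun, Module.finrank_fin_fun]; exact hk)
  obtain ⟨p, hp, hp0⟩ := (Submodule.ne_bot_iff _).mp h
  refine ⟨p, hp0, fun i => ?_⟩
  have := congrFun (LinearMap.mem_ker.mp hp) i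
  exact this

theorem exists_ker2 (hN : 3 ≤ N) (c₁ c₂ : Fin N → F) :
    ∃ p : Fin N → F, p ≠ 0 ∧ c₁ ⬝ᵥ p = 0 ∧ c₂ ⬝ᵥ p = 0 := by
  obtain ⟨p, hp, h⟩ := exists_ker 2 (by omega) ![c₁, c₂]
  exact ⟨p, hp, h 0, h 1⟩

theorem exists_ker3 (hN : 4 ≤ N) (c₁ c₂ c₃ : Fin N → F) :
    ∃ p : Fin N → F, p ≠ 0 ∧ c₁ ⬝ᵥ p = 0 ∧ c₂ ⬝ᵥ p = 0 ∧ c₃ ⬝ᵥ p = 0 := by
  obtain ⟨p, hp, h⟩ := exists_ker 3 (by omega) ![c₁, c₂, c₃]
  exact ⟨p, hp, h 0, h 1, h 2⟩

theorem exists_ker4 (hN : 5 ≤ N) (c₁ c₂ c₃ c₄ : Fin N → F) :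
    ∃ p : Fin N → F, p ≠ 0 ∧ c₁ ⬝ᵥ p = 0 ∧ c₂ ⬝ᵥ p = 0 ∧ c₃ ⬝ᵥ p = 0 ∧ c₄ ⬝ᵥ p = 0 := by
  obtain ⟨p, hp, h⟩ := exists_ker 4 (by omega) ![c₁, c₂, c₃, c₄]
  exact ⟨p, hp, h 0, h 1, h 2, h 3⟩

/-- a vector killed by a covector `a'` with `a' a = 1` is not a multiple of `a` unless zero -/
theorem not_smul_of_dual (a a' p : Fin N → F) (h1 : a' ⬝ᵥ a = 1) (hp : p ≠ 0) (h0 : a' ⬝ᵥ p = 0) :
    ∀ c : F, p ≠ c • a := by
  intro c hc
  rw [hc, dotProduct_smul, h1, smul_eq_mul, mul_one] at h0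
  rw [h0, zero_smul] at hc
  exact hp hc

end exist

section chars

theorem addChar_ne_zero' (ψ : AddChar F ℂ) (x : F) : ψ x ≠ 0 := by
  intro h
  have := ψ.map_add_eq_mul x (-x)
  rw [add_neg_cancel, ψ.map_zero_eq_one, h, zero_mul] at this
  exact one_ne_zero this

theorem psi_zero_of_forall (ψ : AddChar F ℂ) (hψ : ψ 1 ≠ 1) (t : F) (h : ∀ c : F, ψ (c * t) = 1) :
    t = 0 := by
  by_contra ht
  apply hψ
  have := h t⁻¹
  rwa [inv_mul_cancel₀ ht] at this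

/-- every multiplicative function on `F^N` is `ψ (x ⬝ᵥ ·)` -/
theorem exists_vec [Finite F] (ψ : AddChar F ℂ) (hψ : ψ 1 ≠ 1) (χ : (Fin N → F) → ℂ)
    (hχ : ∀ u u', χ (u + u') = χ u * χ u') (hχ0 : χ 0 = 1) :
    ∃ x : Fin N → F, ∀ u, χ u = ψ (x ⬝ᵥ u) := by
  classical
  have : Fintype F := Fintype.ofFinite F
  let Φ : (Fin N → F) → AddChar (Fin N → F) ℂ := fun x =>
    { toFun := fun u => ψ (x ⬝ᵥ u)
      map_zero_eq_one' := by rw [dotProduct_zero, AddChar.map_zero_eq_one]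
      map_add_eq_mul' := fun u u' => by rw [dotProduct_add, AddChar.map_add_eq_mul] }
  have hinj : Function.Injective Φ := by
    intro x x' h
    funext i
    have h1 : ∀ c : F, ψ (c * (x i - x' i)) = 1 := by
      intro c
      have h2 := DFunLike.congr_fun h (c • Pi.single i 1)
      change ψ (x ⬝ᵥ (c • Pi.single i 1)) = ψ (x' ⬝ᵥ (c • Pi.single i 1)) at h2
      rw [dotProduct_smul, dotProduct_smul, dotProduct_single, dotProduct_single, mul_one, mul_one,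
        smul_eq_mul, smul_eq_mul] at h2
      rw [mul_sub, sub_eq_add_neg, AddChar.map_add_eq_mul, AddChar.map_neg_eq_inv, h2,
        mul_inv_cancel₀ (addChar_ne_zero' ψ _)]
    exact sub_eq_zero.mp (psi_zero_of_forall ψ hψ _ h1)
  have hcard : Nat.card (AddChar (Fin N → F) ℂ) ≤ Nat.card (Fin N → F) := by
    rw [Nat.card_eq_fintype_card, Nat.card_eq_fintype_card, AddChar.card_eq]
  have hbij := hinj.bijective_of_nat_card_le hcard
  obtain ⟨x, hx⟩ := hbij.2 { toFun := χ, map_zero_eq_one' := hχ0, map_add_eq_mul' := hχ }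
  exact ⟨x, fun u => (DFunLike.congr_fun hx u).symm⟩

/-- a non-trivial multiplicative function on a finite abelian group sums to zero -/
theorem sum_eq_zero_of_mul {ι : Type*} [AddCommGroup ι] [Fintype ι] (χ : ι → ℂ)
    (hmul : ∀ b b', χ (b + b') = χ b * χ b') (b₀ : ι) (h : χ b₀ ≠ 1) : ∑ b, χ b = 0 := by
  have h1 : ∑ b, χ b = χ b₀ * ∑ b, χ b := by
    rw [Finset.mul_sum,
      ← Fintype.sum_equiv (Equiv.addRight b₀) (fun b => χ (b + b₀)) (fun b => χ b) (fun b => rfl)]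
    exact Finset.sum_congr rfl (fun b _ => by rw [hmul, mul_comm])
  have h2 : (χ b₀ - 1) * ∑ b, χ b = 0 := by rw [sub_mul, one_mul, ← h1, sub_self]
  rcases mul_eq_zero.mp h2 with h3 | h3
  · exact absurd (sub_eq_zero.mp h3) h
  · exact h3

end chars

end Cfsg.Agent.Lib.Helper39.SLMinTv
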